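import Mathlib
import Cfsg.Agent.Lib.H07.CD.Fi22UD
set_option autoImplicit false
set_option maxRecDepth 1000000
namespace Cfsg.Agent.H07.CD.Fi22U
open Cfsg.Agent.H07.Coset Cfsg.Spor
noncomputable section

abbrev ncol : ℕ := 9
abbrev cM : ℕ := 133727
abbrev cN : ℕ := 15884
abbrev cn : ℕ := 14080

def col : Fi22.Gen → Bool → ℕ
  | .a, true => 0
  | .a, false => 0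
  | .b, true => 1
  | .b, false => 1
  | .c, true => 2
  | .c, false => 2
  | .d, true => 3
  | .d, false => 3
  | .e, true => 4
  | .e, false => 4
  | .f, true => 5
  | .f, false => 5
  | .g, true => 6
  | .g, false => 6
  | .h, true => 7
  | .h, false => 7
  | .i, true => 8
  | .i, false => 8

def letter : ℕ → Fi22.Gen × Bool
  | 0 => (.a, true)
  | 1 => (.b, true)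
  | 2 => (.c, true)
  | 3 => (.d, true)
  | 4 => (.e, true)
  | 5 => (.f, true)
  | 6 => (.g, true)
  | 7 => (.h, true)
  | 8 => (.i, true)
  | _ => (.a, true)

def ybar : ℕ → ℕ
  | 0 => 0
  | 1 => 1
  | 2 => 2
  | 3 => 3
  | 4 => 4
  | 5 => 5
  | 6 => 6
  | 7 => 7
  | 8 => 8
  | y => y

abbrev rels : Set (FreeGroup Fi22.Gen) := coxRelators Fi22.edges ∪ {r | r ∈ Fi22.extra}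

abbrev relL : List (FreeGroup Fi22.Gen) := relList Fi22.edges Fi22.extra

def Sl : List (FreeGroup Fi22.Gen) := [Fi22.b, Fi22.c, Fi22.d, Fi22.e, Fi22.f, Fi22.g, Fi22.h, Fi22.i]

abbrev cS : Set (FreeGroup Fi22.Gen) := {Fi22.b, Fi22.c, Fi22.d, Fi22.e, Fi22.f, Fi22.g, Fi22.h, Fi22.i}

def hwL : List (FreeGroup Fi22.Gen) := []

def hwf (j : ℕ) : FreeGroup Fi22.Gen := hwL.getD j 1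

def relW : List (List ℕ) := [[0,1,0,1,0,1],[0,2,0,2],[0,3,0,3],[0,4,0,4],[0,7,0,7],[0,5,0,5],[0,6,0,6],[0,8,0,8],[1,2,1,2,1,2],[1,3,1,3],[1,4,1,4],[1,7,1,7],[1,5,1,5],[1,6,1,6],[1,8,1,8],[2,3,2,3,2,3],[2,4,2,4],[2,7,2,7],[2,5,2,5],[2,6,2,6],[2,8,2,8],[3,4,3,4,3,4],[3,7,3,7,3,7],[3,5,3,5],[3,6,3,6],[3,8,3,8],[4,7,4,7],[4,5,4,5,4,5],[4,6,4,6],[4,8,4,8],[7,5,7,5],[7,6,7,6],[7,8,7,8,7,8],[5,6,5,6,5,6],[5,8,5,8],[6,8,6,8],[3,2,1,3,4,5,3,7,8,3,2,1,3,4,5,3,7,8,3,2,1,3,4,5,3,7,8,3,2,1,3,4,5,3,7,8,3,2,1,3,4,5,3,7,8,3,2,1,3,4,5,3,7,8,3,2,1,3,4,5,3,7,8,3,2,1,3,4,5,3,7,8,3,2,1,3,4,5,3,7,8,3,2,1,3,4,5,3,7,8],[0,1,2,3,4,5,7,0,1,2,3,4,5,7,0,1,2,3,4,5,7,0,1,2,3,4,5,7,0,1,2,3,4,5,7,0,1,2,3,4,5,7,0,1,2,3,4,5,7,0,1,2,3,4,5,7,0,1,2,3,4,5,7],[1,2,3,4,5,6,7,1,2,3,4,5,6,7,1,2,3,4,5,6,7,1,2,3,4,5,6,7,1,2,3,4,5,6,7,1,2,3,4,5,6,7,1,2,3,4,5,6,7,1,2,3,4,5,6,7,1,2,3,4,5,6,7]]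

def chkW : List (List ℕ) := [[0,0],[1,1],[2,2],[3,3],[4,4],[5,5],[6,6],[7,7],[8,8],[1,0,1,0,1,0],[2,0,2,0],[3,0,3,0],[4,0,4,0],[7,0,7,0],[5,0,5,0],[6,0,6,0],[8,0,8,0],[2,1,2,1,2,1],[3,1,3,1],[4,1,4,1],[7,1,7,1],[5,1,5,1],[6,1,6,1],[8,1,8,1],[3,2,3,2,3,2],[4,2,4,2],[7,2,7,2],[5,2,5,2],[6,2,6,2],[8,2,8,2],[4,3,4,3,4,3],[7,3,7,3,7,3],[5,3,5,3],[6,3,6,3],[8,3,8,3],[7,4,7,4],[5,4,5,4,5,4],[6,4,6,4],[8,4,8,4],[5,7,5,7],[6,7,6,7],[8,7,8,7,8,7],[6,5,6,5,6,5],[8,5,8,5],[8,6,8,6],[8,7,3,5,4,3,1,2,3,8,7,3,5,4,3,1,2,3,8,7,3,5,4,3,1,2,3,8,7,3,5,4,3,1,2,3,8,7,3,5,4,3,1,2,3,8,7,3,5,4,3,1,2,3,8,7,3,5,4,3,1,2,3,8,7,3,5,4,3,1,2,3,8,7,3,5,4,3,1,2,3,8,7,3,5,4,3,1,2,3],[7,5,4,3,2,1,0,7,5,4,3,2,1,0,7,5,4,3,2,1,0,7,5,4,3,2,1,0,7,5,4,3,2,1,0,7,5,4,3,2,1,0,7,5,4,3,2,1,0,7,5,4,3,2,1,0,7,5,4,3,2,1,0],[7,6,5,4,3,2,1,7,6,5,4,3,2,1,7,6,5,4,3,2,1,7,6,5,4,3,2,1,7,6,5,4,3,2,1,7,6,5,4,3,2,1,7,6,5,4,3,2,1,7,6,5,4,3,2,1,7,6,5,4,3,2,1]]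

def psW : List (List ℕ) := []

def SW : List (List ℕ) := [[1],[2],[3],[4],[5],[6],[7],[8]]

def hlet : List ℕ := [1,2,3,4,5,6,7,8]

def baseW : List (List ℕ) := mkBase ncol ybar relW psW

def wordT : BT (List ℕ) := (BT.node (BT.node (BT.node (BT.node (BT.node (BT.node (BT.node (BT.leaf [0,0]) (BT.leaf [5,4,5,4,5,4])) (BT.node (BT.leaf [7,1,7,1]) (BT.leaf [1,2,3,8,7,3,5,4,3,1,2,3,8,7,3,5,4,3,1,2,3,8,7,3,5,4,3,1,2,3,8,7,3,5,4,3,1,2,3,8,7,3,5,4,3,1,2,3,8,7,3,5,4,3,1,2,3,8,7,3,5,4,3,1,2,3,8,7,3,5,4,3,1,2,3,8,7,3,5,4,3,1,2,3,8,7,3,5,4,3]))) (BT.node (BT.node (BT.leaf [4,0,4,0]) (BT.leaf [8,6,8,6])) (BT.node (BT.leaf [6,2,6,2]) (BT.leaf [0,7,5,4,3,2,1,0,7,5,4,3,2,1,0,7,5,4,3,2,1,0,7,5,4,3,2,1,0,7,5,4,3,2,1,0,7,5,4,3,2,1,0,7,5,4,3,2,1,0,7,5,4,3,2,1,0,7,5,4,3,2,1]))))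 (BT.node (BT.node (BT.node (BT.leaf [8,8]) (BT.leaf [6,7,6,7])) (BT.node (BT.leaf [3,2,3,2,3,2]) (BT.leaf [5,7,0,1,2,3,4,5,7,0,1,2,3,4,5,7,0,1,2,3,4,5,7,0,1,2,3,4,5,7,0,1,2,3,4,5,7,0,1,2,3,4,5,7,0,1,2,3,4,5,7,0,1,2,3,4,5,7,0,1,2,3,4]))) (BT.node (BT.node (BT.leaf [8,0,8,0]) (BT.leaf [7,8,3,2,1,3,4,5,3,7,8,3,2,1,3,4,5,3,7,8,3,2,1,3,4,5,3,7,8,3,2,1,3,4,5,3,7,8,3,2,1,3,4,5,3,7,8,3,2,1,3,4,5,3,7,8,3,2,1,3,4,5,3,7,8,3,2,1,3,4,5,3,7,8,3,2,1,3,4,5,3,7,8,3,2,1,3,4,5,3])) (BT.node (BT.leaf [5,3,5,3]) (BT.leaf [7,6,5,4,3,2,1,7,6,5,4,3,2,1,7,6,5,4,3,2,1,7,6,5,4,3,2,1,7,6,5,4,3,2,1,7,6,5,4,3,2,1,7,6,5,4,3,2,1,7,6,5,4,3,2,1,7,6,5,4,3,2,1]))))) (BT.node (BT.node (BT.node (BT.node (BT.leaf [4,4]) (BT.leaf [8,4,8,4])) (BT.node (BT.leaf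 [6,1,6,1]) (BT.leaf [1,2,3,4,5,7,0,1,2,3,4,5,7,0,1,2,3,4,5,7,0,1,2,3,4,5,7,0,1,2,3,4,5,7,0,1,2,3,4,5,7,0,1,2,3,4,5,7,0,1,2,3,4,5,7,0,1,2,3,4,5,7,0]))) (BT.node (BT.node (BT.leaf [5,0,5,0]) (BT.leaf [3,4,5,3,7,8,3,2,1,3,4,5,3,7,8,3,2,1,3,4,5,3,7,8,3,2,1,3,4,5,3,7,8,3,2,1,3,4,5,3,7,8,3,2,1,3,4,5,3,7,8,3,2,1,3,4,5,3,7,8,3,2,1,3,4,5,3,7,8,3,2,1,3,4,5,3,7,8,3,2,1,3,4,5,3,7,8,3,2,1])) (BT.node (BT.leaf [4,3,4,3,4,3]) (BT.leaf [4,5,6,7,1,2,3,4,5,6,7,1,2,3,4,5,6,7,1,2,3,4,5,6,7,1,2,3,4,5,6,7,1,2,3,4,5,6,7,1,2,3,4,5,6,7,1,2,3,4,5,6,7,1,2,3,4,5,6,7,1,2,3])))) (BT.node (BT.node (BT.node (BT.leaf [2,0,2,0]) (BT.leaf [6,5,6,5,6,5])) (BT.node (BT.leaf [7,2,7,2]) (BT.leaf [4,3,2,1,0,7,5,4,3,2,1,0,7,5,4,3,2,1,0,7,5,4,3,2,1,0,7,5,4,3,2,1,0,7,5,4,3,2,1,0,7,5,4,3,2,1,0,7,5,4,3,2,1,0,7,5,4,3,2,1,0,7,5])))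 (BT.node (BT.node (BT.leaf [3,1,3,1]) (BT.leaf [3,5,4,3,1,2,3,8,7,3,5,4,3,1,2,3,8,7,3,5,4,3,1,2,3,8,7,3,5,4,3,1,2,3,8,7,3,5,4,3,1,2,3,8,7,3,5,4,3,1,2,3,8,7,3,5,4,3,1,2,3,8,7,3,5,4,3,1,2,3,8,7,3,5,4,3,1,2,3,8,7,3,5,4,3,1,2,3,8,7])) (BT.node (BT.leaf [8,3,8,3]) (BT.leaf [3,2,1,7,6,5,4,3,2,1,7,6,5,4,3,2,1,7,6,5,4,3,2,1,7,6,5,4,3,2,1,7,6,5,4,3,2,1,7,6,5,4,3,2,1,7,6,5,4,3,2,1,7,6,5,4,3,2,1,7,6,5,4])))))) (BT.node (BT.node (BT.node (BT.node (BT.node (BT.leaf [2,2]) (BT.leaf [6,4,6,4])) (BT.node (BT.leaf [5,1,5,1]) (BT.leaf [3,8,7,3,5,4,3,1,2,3,8,7,3,5,4,3,1,2,3,8,7,3,5,4,3,1,2,3,8,7,3,5,4,3,1,2,3,8,7,3,5,4,3,1,2,3,8,7,3,5,4,3,1,2,3,8,7,3,5,4,3,1,2,3,8,7,3,5,4,3,1,2,3,8,7,3,5,4,3,1,2,3,8,7,3,5,4,3,1,2]))) (BT.node (BT.node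 (BT.leaf [7,0,7,0]) (BT.leaf [2,1,3,4,5,3,7,8,3,2,1,3,4,5,3,7,8,3,2,1,3,4,5,3,7,8,3,2,1,3,4,5,3,7,8,3,2,1,3,4,5,3,7,8,3,2,1,3,4,5,3,7,8,3,2,1,3,4,5,3,7,8,3,2,1,3,4,5,3,7,8,3,2,1,3,4,5,3,7,8,3,2,1,3,4,5,3,7,8,3])) (BT.node (BT.leaf [8,2,8,2]) (BT.leaf [2,3,4,5,6,7,1,2,3,4,5,6,7,1,2,3,4,5,6,7,1,2,3,4,5,6,7,1,2,3,4,5,6,7,1,2,3,4,5,6,7,1,2,3,4,5,6,7,1,2,3,4,5,6,7,1,2,3,4,5,6,7,1])))) (BT.node (BT.node (BT.node (BT.leaf [1,0,1,0,1,0]) (BT.leaf [8,7,8,7,8,7])) (BT.node (BT.leaf [4,2,4,2]) (BT.leaf [7,5,4,3,2,1,0,7,5,4,3,2,1,0,7,5,4,3,2,1,0,7,5,4,3,2,1,0,7,5,4,3,2,1,0,7,5,4,3,2,1,0,7,5,4,3,2,1,0,7,5,4,3,2,1,0,7,5,4,3,2,1,0]))) (BT.node (BT.node (BT.leaf [2,1,2,1,2,1]) (BT.leaf [8,7,3,5,4,3,1,2,3,8,7,3,5,4,3,1,2,3,8,7,3,5,4,3,1,2,3,8,7,3,5,4,3,1,2,3,8,7,3,5,4,3,1,2,3,8,7,3,5,4,3,1,2,3,8,7,3,5,4,3,1,2,3,8,7,3,5,4,3,1,2,3,8,7,3,5,4,3,1,2,3,8,7,3,5,4,3,1,2,3]))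 (BT.node (BT.leaf [6,3,6,3]) (BT.leaf [5,4,3,2,1,7,6,5,4,3,2,1,7,6,5,4,3,2,1,7,6,5,4,3,2,1,7,6,5,4,3,2,1,7,6,5,4,3,2,1,7,6,5,4,3,2,1,7,6,5,4,3,2,1,7,6,5,4,3,2,1,7,6]))))) (BT.node (BT.node (BT.node (BT.node (BT.leaf [6,6]) (BT.leaf [5,7,5,7])) (BT.node (BT.leaf [8,1,8,1]) (BT.leaf [3,4,5,7,0,1,2,3,4,5,7,0,1,2,3,4,5,7,0,1,2,3,4,5,7,0,1,2,3,4,5,7,0,1,2,3,4,5,7,0,1,2,3,4,5,7,0,1,2,3,4,5,7,0,1,2,3,4,5,7,0,1,2]))) (BT.node (BT.node (BT.leaf [6,0,6,0]) (BT.leaf [5,3,7,8,3,2,1,3,4,5,3,7,8,3,2,1,3,4,5,3,7,8,3,2,1,3,4,5,3,7,8,3,2,1,3,4,5,3,7,8,3,2,1,3,4,5,3,7,8,3,2,1,3,4,5,3,7,8,3,2,1,3,4,5,3,7,8,3,2,1,3,4,5,3,7,8,3,2,1,3,4,5,3,7,8,3,2,1,3,4])) (BT.node (BT.leaf [7,3,7,3,7,3]) (BT.leaf [6,7,1,2,3,4,5,6,7,1,2,3,4,5,6,7,1,2,3,4,5,6,7,1,2,3,4,5,6,7,1,2,3,4,5,6,7,1,2,3,4,5,6,7,1,2,3,4,5,6,7,1,2,3,4,5,6,7,1,2,3,4,5]))))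 (BT.node (BT.node (BT.node (BT.leaf [3,0,3,0]) (BT.leaf [8,5,8,5])) (BT.node (BT.leaf [5,2,5,2]) (BT.leaf [2,1,0,7,5,4,3,2,1,0,7,5,4,3,2,1,0,7,5,4,3,2,1,0,7,5,4,3,2,1,0,7,5,4,3,2,1,0,7,5,4,3,2,1,0,7,5,4,3,2,1,0,7,5,4,3,2,1,0,7,5,4,3]))) (BT.node (BT.node (BT.leaf [4,1,4,1]) (BT.leaf [4,3,1,2,3,8,7,3,5,4,3,1,2,3,8,7,3,5,4,3,1,2,3,8,7,3,5,4,3,1,2,3,8,7,3,5,4,3,1,2,3,8,7,3,5,4,3,1,2,3,8,7,3,5,4,3,1,2,3,8,7,3,5,4,3,1,2,3,8,7,3,5,4,3,1,2,3,8,7,3,5,4,3,1,2,3,8,7,3,5])) (BT.node (BT.leaf [7,4,7,4]) (BT.leaf [1,7,6,5,4,3,2,1,7,6,5,4,3,2,1,7,6,5,4,3,2,1,7,6,5,4,3,2,1,7,6,5,4,3,2,1,7,6,5,4,3,2,1,7,6,5,4,3,2,1,7,6,5,4,3,2,1,7,6,5,4,3,2]))))))) (BT.node (BT.node (BT.node (BT.node (BT.node (BT.node (BT.leaf [1,1]) (BT.leaf [4,6,4,6]))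 (BT.node (BT.leaf [1,5,1,5]) (BT.leaf [2,3,8,7,3,5,4,3,1,2,3,8,7,3,5,4,3,1,2,3,8,7,3,5,4,3,1,2,3,8,7,3,5,4,3,1,2,3,8,7,3,5,4,3,1,2,3,8,7,3,5,4,3,1,2,3,8,7,3,5,4,3,1,2,3,8,7,3,5,4,3,1,2,3,8,7,3,5,4,3,1,2,3,8,7,3,5,4,3,1]))) (BT.node (BT.node (BT.leaf [0,7,0,7]) (BT.leaf [3,2,1,3,4,5,3,7,8,3,2,1,3,4,5,3,7,8,3,2,1,3,4,5,3,7,8,3,2,1,3,4,5,3,7,8,3,2,1,3,4,5,3,7,8,3,2,1,3,4,5,3,7,8,3,2,1,3,4,5,3,7,8,3,2,1,3,4,5,3,7,8,3,2,1,3,4,5,3,7,8,3,2,1,3,4,5,3,7,8])) (BT.node (BT.leaf [2,8,2,8]) (BT.leaf [1,2,3,4,5,6,7,1,2,3,4,5,6,7,1,2,3,4,5,6,7,1,2,3,4,5,6,7,1,2,3,4,5,6,7,1,2,3,4,5,6,7,1,2,3,4,5,6,7,1,2,3,4,5,6,7,1,2,3,4,5,6,7])))) (BT.node (BT.node (BT.node (BT.leaf [0,1,0,1,0,1]) (BT.leaf [7,8,7,8,7,8])) (BT.node (BT.leaf [2,4,2,4])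 (BT.leaf [7,0,1,2,3,4,5,7,0,1,2,3,4,5,7,0,1,2,3,4,5,7,0,1,2,3,4,5,7,0,1,2,3,4,5,7,0,1,2,3,4,5,7,0,1,2,3,4,5,7,0,1,2,3,4,5,7,0,1,2,3,4,5]))) (BT.node (BT.node (BT.leaf [1,2,1,2,1,2]) (BT.leaf [8,3,2,1,3,4,5,3,7,8,3,2,1,3,4,5,3,7,8,3,2,1,3,4,5,3,7,8,3,2,1,3,4,5,3,7,8,3,2,1,3,4,5,3,7,8,3,2,1,3,4,5,3,7,8,3,2,1,3,4,5,3,7,8,3,2,1,3,4,5,3,7,8,3,2,1,3,4,5,3,7,8,3,2,1,3,4,5,3,7])) (BT.node (BT.leaf [3,6,3,6]) (BT.leaf [6,5,4,3,2,1,7,6,5,4,3,2,1,7,6,5,4,3,2,1,7,6,5,4,3,2,1,7,6,5,4,3,2,1,7,6,5,4,3,2,1,7,6,5,4,3,2,1,7,6,5,4,3,2,1,7,6,5,4,3,2,1,7]))))) (BT.node (BT.node (BT.node (BT.node (BT.leaf [5,5]) (BT.leaf [7,5,7,5])) (BT.node (BT.leaf [1,8,1,8]) (BT.leaf [2,3,4,5,7,0,1,2,3,4,5,7,0,1,2,3,4,5,7,0,1,2,3,4,5,7,0,1,2,3,4,5,7,0,1,2,3,4,5,7,0,1,2,3,4,5,7,0,1,2,3,4,5,7,0,1,2,3,4,5,7,0,1])))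 (BT.node (BT.node (BT.leaf [0,6,0,6]) (BT.leaf [4,5,3,7,8,3,2,1,3,4,5,3,7,8,3,2,1,3,4,5,3,7,8,3,2,1,3,4,5,3,7,8,3,2,1,3,4,5,3,7,8,3,2,1,3,4,5,3,7,8,3,2,1,3,4,5,3,7,8,3,2,1,3,4,5,3,7,8,3,2,1,3,4,5,3,7,8,3,2,1,3,4,5,3,7,8,3,2,1,3])) (BT.node (BT.leaf [3,7,3,7,3,7]) (BT.leaf [5,6,7,1,2,3,4,5,6,7,1,2,3,4,5,6,7,1,2,3,4,5,6,7,1,2,3,4,5,6,7,1,2,3,4,5,6,7,1,2,3,4,5,6,7,1,2,3,4,5,6,7,1,2,3,4,5,6,7,1,2,3,4])))) (BT.node (BT.node (BT.node (BT.leaf [0,3,0,3]) (BT.leaf [5,8,5,8])) (BT.node (BT.leaf [2,5,2,5]) (BT.leaf [3,2,1,0,7,5,4,3,2,1,0,7,5,4,3,2,1,0,7,5,4,3,2,1,0,7,5,4,3,2,1,0,7,5,4,3,2,1,0,7,5,4,3,2,1,0,7,5,4,3,2,1,0,7,5,4,3,2,1,0,7,5,4]))) (BT.node (BT.node (BT.leaf [1,4,1,4]) (BT.leaf [5,4,3,1,2,3,8,7,3,5,4,3,1,2,3,8,7,3,5,4,3,1,2,3,8,7,3,5,4,3,1,2,3,8,7,3,5,4,3,1,2,3,8,7,3,5,4,3,1,2,3,8,7,3,5,4,3,1,2,3,8,7,3,5,4,3,1,2,3,8,7,3,5,4,3,1,2,3,8,7,3,5,4,3,1,2,3,8,7,3]))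 (BT.node (BT.leaf [4,7,4,7]) (BT.leaf [2,1,7,6,5,4,3,2,1,7,6,5,4,3,2,1,7,6,5,4,3,2,1,7,6,5,4,3,2,1,7,6,5,4,3,2,1,7,6,5,4,3,2,1,7,6,5,4,3,2,1,7,6,5,4,3,2,1,7,6,5,4,3])))))) (BT.node (BT.node (BT.node (BT.node (BT.node (BT.leaf [3,3]) (BT.leaf [4,8,4,8])) (BT.node (BT.leaf [1,6,1,6]) (BT.leaf [0,1,2,3,4,5,7,0,1,2,3,4,5,7,0,1,2,3,4,5,7,0,1,2,3,4,5,7,0,1,2,3,4,5,7,0,1,2,3,4,5,7,0,1,2,3,4,5,7,0,1,2,3,4,5,7,0,1,2,3,4,5,7]))) (BT.node (BT.node (BT.leaf [0,5,0,5]) (BT.leaf [1,3,4,5,3,7,8,3,2,1,3,4,5,3,7,8,3,2,1,3,4,5,3,7,8,3,2,1,3,4,5,3,7,8,3,2,1,3,4,5,3,7,8,3,2,1,3,4,5,3,7,8,3,2,1,3,4,5,3,7,8,3,2,1,3,4,5,3,7,8,3,2,1,3,4,5,3,7,8,3,2,1,3,4,5,3,7,8,3,2])) (BT.node (BT.leaf [3,4,3,4,3,4]) (BT.leaf [3,4,5,6,7,1,2,3,4,5,6,7,1,2,3,4,5,6,7,1,2,3,4,5,6,7,1,2,3,4,5,6,7,1,2,3,4,5,6,7,1,2,3,4,5,6,7,1,2,3,4,5,6,7,1,2,3,4,5,6,7,1,2]))))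 (BT.node (BT.node (BT.node (BT.leaf [0,2,0,2]) (BT.leaf [5,6,5,6,5,6])) (BT.node (BT.leaf [2,7,2,7]) (BT.leaf [5,4,3,2,1,0,7,5,4,3,2,1,0,7,5,4,3,2,1,0,7,5,4,3,2,1,0,7,5,4,3,2,1,0,7,5,4,3,2,1,0,7,5,4,3,2,1,0,7,5,4,3,2,1,0,7,5,4,3,2,1,0,7]))) (BT.node (BT.node (BT.leaf [1,3,1,3]) (BT.leaf [7,3,5,4,3,1,2,3,8,7,3,5,4,3,1,2,3,8,7,3,5,4,3,1,2,3,8,7,3,5,4,3,1,2,3,8,7,3,5,4,3,1,2,3,8,7,3,5,4,3,1,2,3,8,7,3,5,4,3,1,2,3,8,7,3,5,4,3,1,2,3,8,7,3,5,4,3,1,2,3,8,7,3,5,4,3,1,2,3,8])) (BT.node (BT.leaf [3,8,3,8]) (BT.leaf [4,3,2,1,7,6,5,4,3,2,1,7,6,5,4,3,2,1,7,6,5,4,3,2,1,7,6,5,4,3,2,1,7,6,5,4,3,2,1,7,6,5,4,3,2,1,7,6,5,4,3,2,1,7,6,5,4,3,2,1,7,6,5]))))) (BT.node (BT.node (BT.node (BT.node (BT.leaf [7,7]) (BT.leaf [7,6,7,6])) (BT.node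 (BT.leaf [2,3,2,3,2,3]) (BT.leaf [4,5,7,0,1,2,3,4,5,7,0,1,2,3,4,5,7,0,1,2,3,4,5,7,0,1,2,3,4,5,7,0,1,2,3,4,5,7,0,1,2,3,4,5,7,0,1,2,3,4,5,7,0,1,2,3,4,5,7,0,1,2,3]))) (BT.node (BT.node (BT.leaf [0,8,0,8]) (BT.leaf [3,7,8,3,2,1,3,4,5,3,7,8,3,2,1,3,4,5,3,7,8,3,2,1,3,4,5,3,7,8,3,2,1,3,4,5,3,7,8,3,2,1,3,4,5,3,7,8,3,2,1,3,4,5,3,7,8,3,2,1,3,4,5,3,7,8,3,2,1,3,4,5,3,7,8,3,2,1,3,4,5,3,7,8,3,2,1,3,4,5])) (BT.node (BT.leaf [3,5,3,5]) (BT.leaf [7,1,2,3,4,5,6,7,1,2,3,4,5,6,7,1,2,3,4,5,6,7,1,2,3,4,5,6,7,1,2,3,4,5,6,7,1,2,3,4,5,6,7,1,2,3,4,5,6,7,1,2,3,4,5,6,7,1,2,3,4,5,6])))) (BT.node (BT.node (BT.node (BT.leaf [0,4,0,4]) (BT.leaf [6,8,6,8])) (BT.node (BT.leaf [2,6,2,6]) (BT.leaf [1,0,7,5,4,3,2,1,0,7,5,4,3,2,1,0,7,5,4,3,2,1,0,7,5,4,3,2,1,0,7,5,4,3,2,1,0,7,5,4,3,2,1,0,7,5,4,3,2,1,0,7,5,4,3,2,1,0,7,5,4,3,2])))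 (BT.node (BT.node (BT.leaf [1,7,1,7]) (BT.leaf [3,1,2,3,8,7,3,5,4,3,1,2,3,8,7,3,5,4,3,1,2,3,8,7,3,5,4,3,1,2,3,8,7,3,5,4,3,1,2,3,8,7,3,5,4,3,1,2,3,8,7,3,5,4,3,1,2,3,8,7,3,5,4,3,1,2,3,8,7,3,5,4,3,1,2,3,8,7,3,5,4,3,1,2,3,8,7,3,5,4])) (BT.node (BT.leaf [4,5,4,5,4,5]) (BT.leaf [0,0]))))))))

def cell : ℕ → ℕ → ℕ := mkCell (rdArr cellDT 43 11 8796093022207 2047) cN ncol 8796093022207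
def eps : ℕ → ℕ := mkEps (rdArr epsDT 43 11 8796093022207 2047) cN 8796093022207
def stp : ℕ → ℕ := rdArr stpDT 48 11 281474976710655 2047
def defs : ℕ → ℕ := rdArr defDT 22 12 4194303 4095
def T (i y : ℕ) : ℕ := rdArr tabDT 14 13 16383 8191 (Nat.add (Nat.mul i ncol) y)
def live : ℕ → ℕ := rdArr liveDT 14 13 16383 8191

theorem c_relW : relW.all (fun w => relL.any (fun r => w == fw col r)) = true := by decide +kernel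
theorem c_ps : psW.all (fun w => (List.range 1).any (fun j => w == (ncol + 2 * j + 1) :: fw col (hwf j))) = true := by decide +kernel
theorem c_cov : relL.all (fun r => chkW.any (fun w => (List.range w.length).any (fun s => wordOf col r.toWord == w.rotate s))) = true := by decide +kernel
theorem c_lt : chkW.all (fun w => w.all (fun y => Nat.blt y ncol)) = true := by decide +kernel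
theorem c_pairs : (List.range ncol).all (fun y => chkW.contains [y, ybar y]) = true := by decide +kernel
theorem c_S : Sl.all (fun s => Nat.beq (walkR T (wordOf col s.toWord) 0) 0) = true := by decide +kernel
theorem c_hlet : hlet.all (fun y => Nat.blt y ncol && (letter y).2 && Sl.contains (FreeGroup.of (letter y).1)) = true := by decide +kernel
theorem c_sw1 : Sl.all (fun s => SW.contains (wordOf col s.toWord) && SW.contains (wordOf col (s⁻¹).toWord)) = true := by decide +kernel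
theorem c_sw2 : SW.all (fun w => Sl.any (fun s => w == wordOf col s.toWord || w == wordOf col (s⁻¹).toWord)) = true := by decide +kernel
theorem c_letter : (List.range ncol).all (fun y => Nat.beq (col (letter y).1 (letter y).2) y) = true := by decide +kernel

theorem c_leaf : BT.all (leafOK baseW) wordT = true := by decide +kernel
abbrev F_step : ℕ → Bool := guard cM (stepOK cell eps stp defs wordT.get ncol hlet)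
abbrev F_cell : ℕ → Bool := guard cN (fun g => (List.range ncol).all (fun y => consCell cell stp cM g y))
abbrev F_eps : ℕ → Bool := guard cN (consEps eps stp cM)
abbrev F_fin : ℕ → Bool := guard cn (finOK cell eps live T cM cn ncol)

end

end Cfsg.Agent.H07.CD.Fi22U
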