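import Mathlib
import Cfsg.Agent.Lib.H07.CD.Fi23ClD
set_option autoImplicit false
set_option maxRecDepth 1000000
namespace Cfsg.Agent.H07.CD.Fi23Cl
open Cfsg.Agent.H07.Coset Cfsg.Agent.H07.SimpleT Cfsg.Agent.H07.TT3 Cfsg.Agent.H07.CD.Fi23T Cfsg.Spor
theorem c_comm_0 : allR (guard cn (F_comm)) 10 (0 * 2 ^ 10) = true := by decide +kernel
theorem c_comm_1 : allR (guard cn (F_comm)) 10 (1 * 2 ^ 10) = true := by decide +kernel
theorem c_comm_2 : allR (guard cn (F_comm)) 10 (2 * 2 ^ 10) = true := by decide +kernel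
theorem c_comm_3 : allR (guard cn (F_comm)) 10 (3 * 2 ^ 10) = true := by decide +kernel
theorem c_comm_4 : allR (guard cn (F_comm)) 10 (4 * 2 ^ 10) = true := by decide +kernel
theorem c_comm_5 : allR (guard cn (F_comm)) 10 (5 * 2 ^ 10) = true := by decide +kernel
theorem c_comm_6 : allR (guard cn (F_comm)) 10 (6 * 2 ^ 10) = true := by decide +kernel
theorem c_comm_7 : allR (guard cn (F_comm)) 10 (7 * 2 ^ 10) = true := by decide +kernel
theorem c_comm_8 : allR (guard cn (F_comm)) 10 (8 * 2 ^ 10) = true := by decide +kernel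
theorem c_comm_9 : allR (guard cn (F_comm)) 10 (9 * 2 ^ 10) = true := by decide +kernel
theorem c_comm_10 : allR (guard cn (F_comm)) 10 (10 * 2 ^ 10) = true := by decide +kernel
theorem c_comm_11 : allR (guard cn (F_comm)) 10 (11 * 2 ^ 10) = true := by decide +kernel
theorem c_comm_12 : allR (guard cn (F_comm)) 10 (12 * 2 ^ 10) = true := by decide +kernel
theorem c_comm_13 : allR (guard cn (F_comm)) 10 (13 * 2 ^ 10) = true := by decide +kernel
theorem c_comm_14 : allR (guard cn (F_comm)) 10 (14 * 2 ^ 10) = true := by decide +kernel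
theorem c_comm_15 : allR (guard cn (F_comm)) 10 (15 * 2 ^ 10) = true := by decide +kernel
theorem c_comm_16 : allR (guard cn (F_comm)) 10 (16 * 2 ^ 10) = true := by decide +kernel
theorem c_comm_17 : allR (guard cn (F_comm)) 10 (17 * 2 ^ 10) = true := by decide +kernel
theorem c_comm_18 : allR (guard cn (F_comm)) 10 (18 * 2 ^ 10) = true := by decide +kernel
theorem c_comm_19 : allR (guard cn (F_comm)) 10 (19 * 2 ^ 10) = true := by decide +kernel
theorem c_comm_20 : allR (guard cn (F_comm)) 10 (20 * 2 ^ 10) = true := by decide +kernel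
theorem c_comm_21 : allR (guard cn (F_comm)) 10 (21 * 2 ^ 10) = true := by decide +kernel
theorem c_comm_22 : allR (guard cn (F_comm)) 10 (22 * 2 ^ 10) = true := by decide +kernel
theorem c_comm_23 : allR (guard cn (F_comm)) 10 (23 * 2 ^ 10) = true := by decide +kernel
theorem c_comm_24 : allR (guard cn (F_comm)) 10 (24 * 2 ^ 10) = true := by decide +kernel
theorem c_comm_25 : allR (guard cn (F_comm)) 10 (25 * 2 ^ 10) = true := by decide +kernel
theorem c_comm_26 : allR (guard cn (F_comm)) 10 (26 * 2 ^ 10) = true := by decide +kernel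
theorem c_comm_27 : allR (guard cn (F_comm)) 10 (27 * 2 ^ 10) = true := by decide +kernel
theorem c_comm_28 : allR (guard cn (F_comm)) 10 (28 * 2 ^ 10) = true := by decide +kernel
theorem c_comm_29 : allR (guard cn (F_comm)) 10 (29 * 2 ^ 10) = true := by decide +kernel
theorem c_comm_30 : allR (guard cn (F_comm)) 10 (30 * 2 ^ 10) = true := by decide +kernel
theorem hs_comm : ∀ i, i < cn → (F_comm) i = true :=
  guard_specM (d := 10) (m := 31) (by decide) (by
  intro j hj
  interval_cases j
  · exact c_comm_0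
  · exact c_comm_1
  · exact c_comm_2
  · exact c_comm_3
  · exact c_comm_4
  · exact c_comm_5
  · exact c_comm_6
  · exact c_comm_7
  · exact c_comm_8
  · exact c_comm_9
  · exact c_comm_10
  · exact c_comm_11
  · exact c_comm_12
  · exact c_comm_13
  · exact c_comm_14
  · exact c_comm_15
  · exact c_comm_16
  · exact c_comm_17
  · exact c_comm_18
  · exact c_comm_19
  · exact c_comm_20
  · exact c_comm_21
  · exact c_comm_22
  · exact c_comm_23
  · exact c_comm_24
  · exact c_comm_25
  · exact c_comm_26
  · exact c_comm_27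
  · exact c_comm_28
  · exact c_comm_29
  · exact c_comm_30
  )
end Cfsg.Agent.H07.CD.Fi23Cl
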