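import Mathlib
import Cfsg.Agent.Lib.H07.CD.Fi23ClD
set_option autoImplicit false
set_option maxRecDepth 1000000
namespace Cfsg.Agent.H07.CD.Fi23Cl
open Cfsg.Agent.H07.Coset Cfsg.Agent.H07.SimpleT Cfsg.Agent.H07.TT3 Cfsg.Agent.H07.CD.Fi23T Cfsg.Spor
theorem c_w3_0 : allR (guard cn (F_w3)) 10 (0 * 2 ^ 10) = true := by decide +kernel
theorem c_w3_1 : allR (guard cn (F_w3)) 10 (1 * 2 ^ 10) = true := by decide +kernel
theorem c_w3_2 : allR (guard cn (F_w3)) 10 (2 * 2 ^ 10) = true := by decide +kernel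
theorem c_w3_3 : allR (guard cn (F_w3)) 10 (3 * 2 ^ 10) = true := by decide +kernel
theorem c_w3_4 : allR (guard cn (F_w3)) 10 (4 * 2 ^ 10) = true := by decide +kernel
theorem c_w3_5 : allR (guard cn (F_w3)) 10 (5 * 2 ^ 10) = true := by decide +kernel
theorem c_w3_6 : allR (guard cn (F_w3)) 10 (6 * 2 ^ 10) = true := by decide +kernel
theorem c_w3_7 : allR (guard cn (F_w3)) 10 (7 * 2 ^ 10) = true := by decide +kernel
theorem c_w3_8 : allR (guard cn (F_w3)) 10 (8 * 2 ^ 10) = true := by decide +kernel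
theorem c_w3_9 : allR (guard cn (F_w3)) 10 (9 * 2 ^ 10) = true := by decide +kernel
theorem c_w3_10 : allR (guard cn (F_w3)) 10 (10 * 2 ^ 10) = true := by decide +kernel
theorem c_w3_11 : allR (guard cn (F_w3)) 10 (11 * 2 ^ 10) = true := by decide +kernel
theorem c_w3_12 : allR (guard cn (F_w3)) 10 (12 * 2 ^ 10) = true := by decide +kernel
theorem c_w3_13 : allR (guard cn (F_w3)) 10 (13 * 2 ^ 10) = true := by decide +kernel
theorem c_w3_14 : allR (guard cn (F_w3)) 10 (14 * 2 ^ 10) = true := by decide +kernel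
theorem c_w3_15 : allR (guard cn (F_w3)) 10 (15 * 2 ^ 10) = true := by decide +kernel
theorem c_w3_16 : allR (guard cn (F_w3)) 10 (16 * 2 ^ 10) = true := by decide +kernel
theorem c_w3_17 : allR (guard cn (F_w3)) 10 (17 * 2 ^ 10) = true := by decide +kernel
theorem c_w3_18 : allR (guard cn (F_w3)) 10 (18 * 2 ^ 10) = true := by decide +kernel
theorem c_w3_19 : allR (guard cn (F_w3)) 10 (19 * 2 ^ 10) = true := by decide +kernel
theorem c_w3_20 : allR (guard cn (F_w3)) 10 (20 * 2 ^ 10) = true := by decide +kernel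
theorem c_w3_21 : allR (guard cn (F_w3)) 10 (21 * 2 ^ 10) = true := by decide +kernel
theorem c_w3_22 : allR (guard cn (F_w3)) 10 (22 * 2 ^ 10) = true := by decide +kernel
theorem c_w3_23 : allR (guard cn (F_w3)) 10 (23 * 2 ^ 10) = true := by decide +kernel
theorem c_w3_24 : allR (guard cn (F_w3)) 10 (24 * 2 ^ 10) = true := by decide +kernel
theorem c_w3_25 : allR (guard cn (F_w3)) 10 (25 * 2 ^ 10) = true := by decide +kernel
theorem c_w3_26 : allR (guard cn (F_w3)) 10 (26 * 2 ^ 10) = true := by decide +kernel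
theorem c_w3_27 : allR (guard cn (F_w3)) 10 (27 * 2 ^ 10) = true := by decide +kernel
theorem c_w3_28 : allR (guard cn (F_w3)) 10 (28 * 2 ^ 10) = true := by decide +kernel
theorem c_w3_29 : allR (guard cn (F_w3)) 10 (29 * 2 ^ 10) = true := by decide +kernel
theorem c_w3_30 : allR (guard cn (F_w3)) 10 (30 * 2 ^ 10) = true := by decide +kernel
theorem hs_w3 : ∀ i, i < cn → (F_w3) i = true :=
  guard_specM (d := 10) (m := 31) (by decide) (by
  intro j hj
  interval_cases j
  · exact c_w3_0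
  · exact c_w3_1
  · exact c_w3_2
  · exact c_w3_3
  · exact c_w3_4
  · exact c_w3_5
  · exact c_w3_6
  · exact c_w3_7
  · exact c_w3_8
  · exact c_w3_9
  · exact c_w3_10
  · exact c_w3_11
  · exact c_w3_12
  · exact c_w3_13
  · exact c_w3_14
  · exact c_w3_15
  · exact c_w3_16
  · exact c_w3_17
  · exact c_w3_18
  · exact c_w3_19
  · exact c_w3_20
  · exact c_w3_21
  · exact c_w3_22
  · exact c_w3_23
  · exact c_w3_24
  · exact c_w3_25
  · exact c_w3_26
  · exact c_w3_27
  · exact c_w3_28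
  · exact c_w3_29
  · exact c_w3_30
  )
end Cfsg.Agent.H07.CD.Fi23Cl
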