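import Mathlib
import Cfsg.Agent.Lib.H07.CD.Fi23ClD
set_option autoImplicit false
set_option maxRecDepth 1000000
namespace Cfsg.Agent.H07.CD.Fi23Cl
open Cfsg.Agent.H07.Coset Cfsg.Agent.H07.SimpleT Cfsg.Agent.H07.TT3 Cfsg.Agent.H07.CD.Fi23T Cfsg.Spor
theorem c_ord1_0 : allR (guard cn (F_2 (28161, 31671))) 10 (0 * 2 ^ 10) = true := by decide +kernel
theorem c_ord1_1 : allR (guard cn (F_2 (28161, 31671))) 10 (1 * 2 ^ 10) = true := by decide +kernel
theorem c_ord1_2 : allR (guard cn (F_2 (28161, 31671))) 10 (2 * 2 ^ 10) = true := by decide +kernel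
theorem c_ord1_3 : allR (guard cn (F_2 (28161, 31671))) 10 (3 * 2 ^ 10) = true := by decide +kernel
theorem c_ord1_4 : allR (guard cn (F_2 (28161, 31671))) 10 (4 * 2 ^ 10) = true := by decide +kernel
theorem c_ord1_5 : allR (guard cn (F_2 (28161, 31671))) 10 (5 * 2 ^ 10) = true := by decide +kernel
theorem c_ord1_6 : allR (guard cn (F_2 (28161, 31671))) 10 (6 * 2 ^ 10) = true := by decide +kernel
theorem c_ord1_7 : allR (guard cn (F_2 (28161, 31671))) 10 (7 * 2 ^ 10) = true := by decide +kernel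
theorem c_ord1_8 : allR (guard cn (F_2 (28161, 31671))) 10 (8 * 2 ^ 10) = true := by decide +kernel
theorem c_ord1_9 : allR (guard cn (F_2 (28161, 31671))) 10 (9 * 2 ^ 10) = true := by decide +kernel
theorem c_ord1_10 : allR (guard cn (F_2 (28161, 31671))) 10 (10 * 2 ^ 10) = true := by decide +kernel
theorem c_ord1_11 : allR (guard cn (F_2 (28161, 31671))) 10 (11 * 2 ^ 10) = true := by decide +kernel
theorem c_ord1_12 : allR (guard cn (F_2 (28161, 31671))) 10 (12 * 2 ^ 10) = true := by decide +kernel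
theorem c_ord1_13 : allR (guard cn (F_2 (28161, 31671))) 10 (13 * 2 ^ 10) = true := by decide +kernel
theorem c_ord1_14 : allR (guard cn (F_2 (28161, 31671))) 10 (14 * 2 ^ 10) = true := by decide +kernel
theorem c_ord1_15 : allR (guard cn (F_2 (28161, 31671))) 10 (15 * 2 ^ 10) = true := by decide +kernel
theorem c_ord1_16 : allR (guard cn (F_2 (28161, 31671))) 10 (16 * 2 ^ 10) = true := by decide +kernel
theorem c_ord1_17 : allR (guard cn (F_2 (28161, 31671))) 10 (17 * 2 ^ 10) = true := by decide +kernel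
theorem c_ord1_18 : allR (guard cn (F_2 (28161, 31671))) 10 (18 * 2 ^ 10) = true := by decide +kernel
theorem c_ord1_19 : allR (guard cn (F_2 (28161, 31671))) 10 (19 * 2 ^ 10) = true := by decide +kernel
theorem c_ord1_20 : allR (guard cn (F_2 (28161, 31671))) 10 (20 * 2 ^ 10) = true := by decide +kernel
theorem c_ord1_21 : allR (guard cn (F_2 (28161, 31671))) 10 (21 * 2 ^ 10) = true := by decide +kernel
theorem c_ord1_22 : allR (guard cn (F_2 (28161, 31671))) 10 (22 * 2 ^ 10) = true := by decide +kernel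
theorem c_ord1_23 : allR (guard cn (F_2 (28161, 31671))) 10 (23 * 2 ^ 10) = true := by decide +kernel
theorem c_ord1_24 : allR (guard cn (F_2 (28161, 31671))) 10 (24 * 2 ^ 10) = true := by decide +kernel
theorem c_ord1_25 : allR (guard cn (F_2 (28161, 31671))) 10 (25 * 2 ^ 10) = true := by decide +kernel
theorem c_ord1_26 : allR (guard cn (F_2 (28161, 31671))) 10 (26 * 2 ^ 10) = true := by decide +kernel
theorem c_ord1_27 : allR (guard cn (F_2 (28161, 31671))) 10 (27 * 2 ^ 10) = true := by decide +kernel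
theorem c_ord1_28 : allR (guard cn (F_2 (28161, 31671))) 10 (28 * 2 ^ 10) = true := by decide +kernel
theorem c_ord1_29 : allR (guard cn (F_2 (28161, 31671))) 10 (29 * 2 ^ 10) = true := by decide +kernel
theorem c_ord1_30 : allR (guard cn (F_2 (28161, 31671))) 10 (30 * 2 ^ 10) = true := by decide +kernel
theorem hs_ord1 : ∀ i, i < cn → (F_2 (28161, 31671)) i = true :=
  guard_specM (d := 10) (m := 31) (by decide) (by
  intro j hj
  interval_cases j
  · exact c_ord1_0
  · exact c_ord1_1
  · exact c_ord1_2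
  · exact c_ord1_3
  · exact c_ord1_4
  · exact c_ord1_5
  · exact c_ord1_6
  · exact c_ord1_7
  · exact c_ord1_8
  · exact c_ord1_9
  · exact c_ord1_10
  · exact c_ord1_11
  · exact c_ord1_12
  · exact c_ord1_13
  · exact c_ord1_14
  · exact c_ord1_15
  · exact c_ord1_16
  · exact c_ord1_17
  · exact c_ord1_18
  · exact c_ord1_19
  · exact c_ord1_20
  · exact c_ord1_21
  · exact c_ord1_22
  · exact c_ord1_23
  · exact c_ord1_24
  · exact c_ord1_25
  · exact c_ord1_26
  · exact c_ord1_27
  · exact c_ord1_28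
  · exact c_ord1_29
  · exact c_ord1_30
  )
end Cfsg.Agent.H07.CD.Fi23Cl
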