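import Mathlib
import Cfsg.Agent.Lib.H07.CD.Fi23L2D
set_option autoImplicit false
set_option maxRecDepth 1000000
namespace Cfsg.Agent.H07.CD.Fi23L2
open Cfsg.Agent.H07.Coset Cfsg.Spor
noncomputable section
namespace LP
inductive Gen
  | b
  | c
  | d
  | e
  | f
  | g
  | h
  | i
  deriving DecidableEq
abbrev b : FreeGroup Gen := FreeGroup.of Gen.b
abbrev c : FreeGroup Gen := FreeGroup.of Gen.c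
abbrev d : FreeGroup Gen := FreeGroup.of Gen.d
abbrev e : FreeGroup Gen := FreeGroup.of Gen.e
abbrev f : FreeGroup Gen := FreeGroup.of Gen.f
abbrev g : FreeGroup Gen := FreeGroup.of Gen.g
abbrev h : FreeGroup Gen := FreeGroup.of Gen.h
abbrev i : FreeGroup Gen := FreeGroup.of Gen.i
def edges : List (Gen × ℕ × Gen) := [(.b, 3, .c), (.c, 3, .d), (.d, 3, .e), (.d, 3, .h), (.e, 3, .f), (.f, 3, .g), (.h, 3, .i)]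
def extra : List (FreeGroup Gen) := [
  d * c * b * d * e * f * d * h * i * d * c * b * d * e * f * d * h * i * d * c * b * d * e * f * d * h * i * d * c * b * d * e * f * d * h * i * d * c * b * d * e * f * d * h * i * d * c * b * d * e * f * d * h * i * d * c * b * d * e * f * d * h * i * d * c * b * d * e * f * d * h * i * d * c * b * d * e * f * d * h * i * d * c * b * d * e * f * d * h * i ]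
def iota : Gen → Fi23.Gen
  | .b => .b
  | .c => .c
  | .d => .d
  | .e => .e
  | .f => .f
  | .g => .g
  | .h => .h
  | .i => .i
end LP

abbrev ncol : ℕ := 8
abbrev cM : ℕ := 45147
abbrev cN : ℕ := 7946
abbrev cn : ℕ := 3159

def col : LP.Gen → Bool → ℕ
  | .b, true => 0
  | .b, false => 0
  | .c, true => 1
  | .c, false => 1
  | .d, true => 2
  | .d, false => 2
  | .e, true => 3
  | .e, false => 3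
  | .f, true => 4
  | .f, false => 4
  | .g, true => 5
  | .g, false => 5
  | .h, true => 6
  | .h, false => 6
  | .i, true => 7
  | .i, false => 7

def letter : ℕ → LP.Gen × Bool
  | 0 => (.b, true)
  | 1 => (.c, true)
  | 2 => (.d, true)
  | 3 => (.e, true)
  | 4 => (.f, true)
  | 5 => (.g, true)
  | 6 => (.h, true)
  | 7 => (.i, true)
  | _ => (.b, true)

def ybar : ℕ → ℕ
  | 0 => 0
  | 1 => 1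
  | 2 => 2
  | 3 => 3
  | 4 => 4
  | 5 => 5
  | 6 => 6
  | 7 => 7
  | y => y

abbrev rels : Set (FreeGroup LP.Gen) := coxRelators LP.edges ∪ {r | r ∈ LP.extra}

abbrev relL : List (FreeGroup LP.Gen) := relList LP.edges LP.extra

def Sl : List (FreeGroup LP.Gen) := [LP.b, LP.c, LP.d, LP.e, LP.f, LP.g, LP.h]

abbrev cS : Set (FreeGroup LP.Gen) := {LP.b, LP.c, LP.d, LP.e, LP.f, LP.g, LP.h}

def hwL : List (FreeGroup LP.Gen) := []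

def hwf (j : ℕ) : FreeGroup LP.Gen := hwL.getD j 1

def relW : List (List ℕ) := [[0,1,0,1,0,1],[0,2,0,2],[0,3,0,3],[0,6,0,6],[0,4,0,4],[0,5,0,5],[0,7,0,7],[1,2,1,2,1,2],[1,3,1,3],[1,6,1,6],[1,4,1,4],[1,5,1,5],[1,7,1,7],[2,3,2,3,2,3],[2,6,2,6,2,6],[2,4,2,4],[2,5,2,5],[2,7,2,7],[3,6,3,6],[3,4,3,4,3,4],[3,5,3,5],[3,7,3,7],[6,4,6,4],[6,5,6,5],[6,7,6,7,6,7],[4,5,4,5,4,5],[4,7,4,7],[5,7,5,7],[2,1,0,2,3,4,2,6,7,2,1,0,2,3,4,2,6,7,2,1,0,2,3,4,2,6,7,2,1,0,2,3,4,2,6,7,2,1,0,2,3,4,2,6,7,2,1,0,2,3,4,2,6,7,2,1,0,2,3,4,2,6,7,2,1,0,2,3,4,2,6,7,2,1,0,2,3,4,2,6,7,2,1,0,2,3,4,2,6,7]]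

def chkW : List (List ℕ) := [[0,0],[1,1],[2,2],[3,3],[4,4],[5,5],[6,6],[7,7],[1,0,1,0,1,0],[2,0,2,0],[3,0,3,0],[6,0,6,0],[4,0,4,0],[5,0,5,0],[7,0,7,0],[2,1,2,1,2,1],[3,1,3,1],[6,1,6,1],[4,1,4,1],[5,1,5,1],[7,1,7,1],[3,2,3,2,3,2],[6,2,6,2,6,2],[4,2,4,2],[5,2,5,2],[7,2,7,2],[6,3,6,3],[4,3,4,3,4,3],[5,3,5,3],[7,3,7,3],[4,6,4,6],[5,6,5,6],[7,6,7,6,7,6],[5,4,5,4,5,4],[7,4,7,4],[7,5,7,5],[7,6,2,4,3,2,0,1,2,7,6,2,4,3,2,0,1,2,7,6,2,4,3,2,0,1,2,7,6,2,4,3,2,0,1,2,7,6,2,4,3,2,0,1,2,7,6,2,4,3,2,0,1,2,7,6,2,4,3,2,0,1,2,7,6,2,4,3,2,0,1,2,7,6,2,4,3,2,0,1,2,7,6,2,4,3,2,0,1,2]]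

def psW : List (List ℕ) := []

def SW : List (List ℕ) := [[0],[1],[2],[3],[4],[5],[6]]

def hlet : List ℕ := [0,1,2,3,4,5,6]

def baseW : List (List ℕ) := mkBase ncol ybar relW psW

def wordT : BT (List ℕ) := (BT.node (BT.node (BT.node (BT.node (BT.node (BT.node (BT.node (BT.leaf [0,0]) (BT.leaf [2,1,0,2,3,4,2,6,7,2,1,0,2,3,4,2,6,7,2,1,0,2,3,4,2,6,7,2,1,0,2,3,4,2,6,7,2,1,0,2,3,4,2,6,7,2,1,0,2,3,4,2,6,7,2,1,0,2,3,4,2,6,7,2,1,0,2,3,4,2,6,7,2,1,0,2,3,4,2,6,7,2,1,0,2,3,4,2,6,7])) (BT.node (BT.leaf [1,7,1,7]) (BT.leaf [0,0]))) (BT.node (BT.node (BT.leaf [0,4,0,4]) (BT.leaf [1,2,7,6,2,4,3,2,0,1,2,7,6,2,4,3,2,0,1,2,7,6,2,4,3,2,0,1,2,7,6,2,4,3,2,0,1,2,7,6,2,4,3,2,0,1,2,7,6,2,4,3,2,0,1,2,7,6,2,4,3,2,0,1,2,7,6,2,4,3,2,0,1,2,7,6,2,4,3,2,0,1,2,7,6,2,4,3,2,0])) (BT.node (BT.leaf [3,5,3,5]) (BT.leaf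 [0,0])))) (BT.node (BT.node (BT.node (BT.leaf [0,1,0,1,0,1]) (BT.leaf [7,2,1,0,2,3,4,2,6,7,2,1,0,2,3,4,2,6,7,2,1,0,2,3,4,2,6,7,2,1,0,2,3,4,2,6,7,2,1,0,2,3,4,2,6,7,2,1,0,2,3,4,2,6,7,2,1,0,2,3,4,2,6,7,2,1,0,2,3,4,2,6,7,2,1,0,2,3,4,2,6,7,2,1,0,2,3,4,2,6])) (BT.node (BT.leaf [2,5,2,5]) (BT.leaf [0,0]))) (BT.node (BT.node (BT.leaf [1,3,1,3]) (BT.leaf [0,0])) (BT.node (BT.leaf [6,7,6,7,6,7]) (BT.leaf [0,0]))))) (BT.node (BT.node (BT.node (BT.node (BT.leaf [4,4]) (BT.leaf [3,4,2,6,7,2,1,0,2,3,4,2,6,7,2,1,0,2,3,4,2,6,7,2,1,0,2,3,4,2,6,7,2,1,0,2,3,4,2,6,7,2,1,0,2,3,4,2,6,7,2,1,0,2,3,4,2,6,7,2,1,0,2,3,4,2,6,7,2,1,0,2,3,4,2,6,7,2,1,0,2,3,4,2,6,7,2,1,0,2])) (BT.node (BT.leaf [2,6,2,6,2,6]) (BT.leaf [0,0]))) (BT.node (BT.node (BT.leaf [0,7,0,7]) (BT.leaf [0,0])) (BT.node (BT.leaf [6,4,6,4]) (BT.leaf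 [0,0])))) (BT.node (BT.node (BT.node (BT.leaf [0,3,0,3]) (BT.leaf [4,3,2,0,1,2,7,6,2,4,3,2,0,1,2,7,6,2,4,3,2,0,1,2,7,6,2,4,3,2,0,1,2,7,6,2,4,3,2,0,1,2,7,6,2,4,3,2,0,1,2,7,6,2,4,3,2,0,1,2,7,6,2,4,3,2,0,1,2,7,6,2,4,3,2,0,1,2,7,6,2,4,3,2,0,1,2,7,6,2])) (BT.node (BT.leaf [3,6,3,6]) (BT.leaf [0,0]))) (BT.node (BT.node (BT.leaf [1,4,1,4]) (BT.leaf [0,0])) (BT.node (BT.leaf [4,7,4,7]) (BT.leaf [0,0])))))) (BT.node (BT.node (BT.node (BT.node (BT.node (BT.leaf [2,2]) (BT.leaf [0,2,3,4,2,6,7,2,1,0,2,3,4,2,6,7,2,1,0,2,3,4,2,6,7,2,1,0,2,3,4,2,6,7,2,1,0,2,3,4,2,6,7,2,1,0,2,3,4,2,6,7,2,1,0,2,3,4,2,6,7,2,1,0,2,3,4,2,6,7,2,1,0,2,3,4,2,6,7,2,1,0,2,3,4,2,6,7,2,1])) (BT.node (BT.leaf [2,3,2,3,2,3]) (BT.leaf [0,0]))) (BT.node (BT.node (BT.leaf [0,5,0,5]) (BT.leaf [0,0])) (BT.node (BT.leaf [3,7,3,7]) (BT.leaf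 [0,0])))) (BT.node (BT.node (BT.node (BT.leaf [0,2,0,2]) (BT.leaf [6,2,4,3,2,0,1,2,7,6,2,4,3,2,0,1,2,7,6,2,4,3,2,0,1,2,7,6,2,4,3,2,0,1,2,7,6,2,4,3,2,0,1,2,7,6,2,4,3,2,0,1,2,7,6,2,4,3,2,0,1,2,7,6,2,4,3,2,0,1,2,7,6,2,4,3,2,0,1,2,7,6,2,4,3,2,0,1,2,7])) (BT.node (BT.leaf [2,7,2,7]) (BT.leaf [0,0]))) (BT.node (BT.node (BT.leaf [1,6,1,6]) (BT.leaf [0,0])) (BT.node (BT.leaf [4,5,4,5,4,5]) (BT.leaf [0,0]))))) (BT.node (BT.node (BT.node (BT.node (BT.leaf [6,6]) (BT.leaf [2,6,7,2,1,0,2,3,4,2,6,7,2,1,0,2,3,4,2,6,7,2,1,0,2,3,4,2,6,7,2,1,0,2,3,4,2,6,7,2,1,0,2,3,4,2,6,7,2,1,0,2,3,4,2,6,7,2,1,0,2,3,4,2,6,7,2,1,0,2,3,4,2,6,7,2,1,0,2,3,4,2,6,7,2,1,0,2,3,4])) (BT.node (BT.leaf [2,4,2,4]) (BT.leaf [0,0]))) (BT.node (BT.node (BT.leaf [1,2,1,2,1,2]) (BT.leaf [0,0])) (BT.node (BT.leaf [6,5,6,5]) (BT.leaf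 [0,0])))) (BT.node (BT.node (BT.node (BT.leaf [0,6,0,6]) (BT.leaf [2,0,1,2,7,6,2,4,3,2,0,1,2,7,6,2,4,3,2,0,1,2,7,6,2,4,3,2,0,1,2,7,6,2,4,3,2,0,1,2,7,6,2,4,3,2,0,1,2,7,6,2,4,3,2,0,1,2,7,6,2,4,3,2,0,1,2,7,6,2,4,3,2,0,1,2,7,6,2,4,3,2,0,1,2,7,6,2,4,3])) (BT.node (BT.leaf [3,4,3,4,3,4]) (BT.leaf [0,0]))) (BT.node (BT.node (BT.leaf [1,5,1,5]) (BT.leaf [0,0])) (BT.node (BT.leaf [5,7,5,7]) (BT.leaf [0,0]))))))) (BT.node (BT.node (BT.node (BT.node (BT.node (BT.node (BT.leaf [1,1]) (BT.leaf [1,0,2,3,4,2,6,7,2,1,0,2,3,4,2,6,7,2,1,0,2,3,4,2,6,7,2,1,0,2,3,4,2,6,7,2,1,0,2,3,4,2,6,7,2,1,0,2,3,4,2,6,7,2,1,0,2,3,4,2,6,7,2,1,0,2,3,4,2,6,7,2,1,0,2,3,4,2,6,7,2,1,0,2,3,4,2,6,7,2])) (BT.node (BT.leaf [7,1,7,1]) (BT.leaf [0,0]))) (BT.node (BT.node (BT.leaf [4,0,4,0]) (BT.leaf [2,7,6,2,4,3,2,0,1,2,7,6,2,4,3,2,0,1,2,7,6,2,4,3,2,0,1,2,7,6,2,4,3,2,0,1,2,7,6,2,4,3,2,0,1,2,7,6,2,4,3,2,0,1,2,7,6,2,4,3,2,0,1,2,7,6,2,4,3,2,0,1,2,7,6,2,4,3,2,0,1,2,7,6,2,4,3,2,0,1]))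 (BT.node (BT.leaf [5,3,5,3]) (BT.leaf [0,0])))) (BT.node (BT.node (BT.node (BT.leaf [1,0,1,0,1,0]) (BT.leaf [7,6,2,4,3,2,0,1,2,7,6,2,4,3,2,0,1,2,7,6,2,4,3,2,0,1,2,7,6,2,4,3,2,0,1,2,7,6,2,4,3,2,0,1,2,7,6,2,4,3,2,0,1,2,7,6,2,4,3,2,0,1,2,7,6,2,4,3,2,0,1,2,7,6,2,4,3,2,0,1,2,7,6,2,4,3,2,0,1,2])) (BT.node (BT.leaf [5,2,5,2]) (BT.leaf [0,0]))) (BT.node (BT.node (BT.leaf [3,1,3,1]) (BT.leaf [0,0])) (BT.node (BT.leaf [7,6,7,6,7,6]) (BT.leaf [0,0]))))) (BT.node (BT.node (BT.node (BT.node (BT.leaf [5,5]) (BT.leaf [4,2,6,7,2,1,0,2,3,4,2,6,7,2,1,0,2,3,4,2,6,7,2,1,0,2,3,4,2,6,7,2,1,0,2,3,4,2,6,7,2,1,0,2,3,4,2,6,7,2,1,0,2,3,4,2,6,7,2,1,0,2,3,4,2,6,7,2,1,0,2,3,4,2,6,7,2,1,0,2,3,4,2,6,7,2,1,0,2,3])) (BT.node (BT.leaf [6,2,6,2,6,2]) (BT.leaf [0,0]))) (BT.node (BT.node (BT.leaf [7,0,7,0]) (BT.leaf [0,0]))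 (BT.node (BT.leaf [4,6,4,6]) (BT.leaf [0,0])))) (BT.node (BT.node (BT.node (BT.leaf [3,0,3,0]) (BT.leaf [3,2,0,1,2,7,6,2,4,3,2,0,1,2,7,6,2,4,3,2,0,1,2,7,6,2,4,3,2,0,1,2,7,6,2,4,3,2,0,1,2,7,6,2,4,3,2,0,1,2,7,6,2,4,3,2,0,1,2,7,6,2,4,3,2,0,1,2,7,6,2,4,3,2,0,1,2,7,6,2,4,3,2,0,1,2,7,6,2,4])) (BT.node (BT.leaf [6,3,6,3]) (BT.leaf [0,0]))) (BT.node (BT.node (BT.leaf [4,1,4,1]) (BT.leaf [0,0])) (BT.node (BT.leaf [7,4,7,4]) (BT.leaf [0,0])))))) (BT.node (BT.node (BT.node (BT.node (BT.node (BT.leaf [3,3]) (BT.leaf [2,3,4,2,6,7,2,1,0,2,3,4,2,6,7,2,1,0,2,3,4,2,6,7,2,1,0,2,3,4,2,6,7,2,1,0,2,3,4,2,6,7,2,1,0,2,3,4,2,6,7,2,1,0,2,3,4,2,6,7,2,1,0,2,3,4,2,6,7,2,1,0,2,3,4,2,6,7,2,1,0,2,3,4,2,6,7,2,1,0])) (BT.node (BT.leaf [3,2,3,2,3,2]) (BT.leaf [0,0]))) (BT.node (BT.node (BT.leaf [5,0,5,0]) (BT.leaf [0,0]))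 (BT.node (BT.leaf [7,3,7,3]) (BT.leaf [0,0])))) (BT.node (BT.node (BT.node (BT.leaf [2,0,2,0]) (BT.leaf [2,4,3,2,0,1,2,7,6,2,4,3,2,0,1,2,7,6,2,4,3,2,0,1,2,7,6,2,4,3,2,0,1,2,7,6,2,4,3,2,0,1,2,7,6,2,4,3,2,0,1,2,7,6,2,4,3,2,0,1,2,7,6,2,4,3,2,0,1,2,7,6,2,4,3,2,0,1,2,7,6,2,4,3,2,0,1,2,7,6])) (BT.node (BT.leaf [7,2,7,2]) (BT.leaf [0,0]))) (BT.node (BT.node (BT.leaf [6,1,6,1]) (BT.leaf [0,0])) (BT.node (BT.leaf [5,4,5,4,5,4]) (BT.leaf [0,0]))))) (BT.node (BT.node (BT.node (BT.node (BT.leaf [7,7]) (BT.leaf [6,7,2,1,0,2,3,4,2,6,7,2,1,0,2,3,4,2,6,7,2,1,0,2,3,4,2,6,7,2,1,0,2,3,4,2,6,7,2,1,0,2,3,4,2,6,7,2,1,0,2,3,4,2,6,7,2,1,0,2,3,4,2,6,7,2,1,0,2,3,4,2,6,7,2,1,0,2,3,4,2,6,7,2,1,0,2,3,4,2])) (BT.node (BT.leaf [4,2,4,2]) (BT.leaf [0,0]))) (BT.node (BT.node (BT.leaf [2,1,2,1,2,1]) (BT.leaf [0,0]))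 (BT.node (BT.leaf [5,6,5,6]) (BT.leaf [0,0])))) (BT.node (BT.node (BT.node (BT.leaf [6,0,6,0]) (BT.leaf [0,1,2,7,6,2,4,3,2,0,1,2,7,6,2,4,3,2,0,1,2,7,6,2,4,3,2,0,1,2,7,6,2,4,3,2,0,1,2,7,6,2,4,3,2,0,1,2,7,6,2,4,3,2,0,1,2,7,6,2,4,3,2,0,1,2,7,6,2,4,3,2,0,1,2,7,6,2,4,3,2,0,1,2,7,6,2,4,3,2])) (BT.node (BT.leaf [4,3,4,3,4,3]) (BT.leaf [0,0]))) (BT.node (BT.node (BT.leaf [5,1,5,1]) (BT.leaf [0,0])) (BT.node (BT.leaf [7,5,7,5]) (BT.leaf [0,0]))))))))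

def cell : ℕ → ℕ → ℕ := mkCell (rdArr cellDT 41 11 2199023255551 2047) cN ncol 2199023255551
def eps : ℕ → ℕ := mkEps (rdArr epsDT 41 11 2199023255551 2047) cN 2199023255551
def stp : ℕ → ℕ := rdArr stpDT 48 11 281474976710655 2047
def defs : ℕ → ℕ := rdArr defDT 21 12 2097151 4095
def T (i y : ℕ) : ℕ := rdArr tabDT 12 13 4095 8191 (Nat.add (Nat.mul i ncol) y)
def live : ℕ → ℕ := rdArr liveDT 13 12 8191 4095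

theorem c_relW : relW.all (fun w => relL.any (fun r => w == fw col r)) = true := by decide +kernel
theorem c_ps : psW.all (fun w => (List.range 1).any (fun j => w == (ncol + 2 * j + 1) :: fw col (hwf j))) = true := by decide +kernel
theorem c_cov : relL.all (fun r => chkW.any (fun w => (List.range w.length).any (fun s => wordOf col r.toWord == w.rotate s))) = true := by decide +kernel
theorem c_lt : chkW.all (fun w => w.all (fun y => Nat.blt y ncol)) = true := by decide +kernel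
theorem c_pairs : (List.range ncol).all (fun y => chkW.contains [y, ybar y]) = true := by decide +kernel
theorem c_S : Sl.all (fun s => Nat.beq (walkR T (wordOf col s.toWord) 0) 0) = true := by decide +kernel
theorem c_hlet : hlet.all (fun y => Nat.blt y ncol && (letter y).2 && Sl.contains (FreeGroup.of (letter y).1)) = true := by decide +kernel
theorem c_sw1 : Sl.all (fun s => SW.contains (wordOf col s.toWord) && SW.contains (wordOf col (s⁻¹).toWord)) = true := by decide +kernel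
theorem c_sw2 : SW.all (fun w => Sl.any (fun s => w == wordOf col s.toWord || w == wordOf col (s⁻¹).toWord)) = true := by decide +kernel
theorem c_letter : (List.range ncol).all (fun y => Nat.beq (col (letter y).1 (letter y).2) y) = true := by decide +kernel

theorem c_leaf : BT.all (leafOK baseW) wordT = true := by decide +kernel
abbrev F_step : ℕ → Bool := guard cM (stepOK cell eps stp defs wordT.get ncol hlet)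
abbrev F_cell : ℕ → Bool := guard cN (fun g => (List.range ncol).all (fun y => consCell cell stp cM g y))
abbrev F_eps : ℕ → Bool := guard cN (consEps eps stp cM)
abbrev F_fin : ℕ → Bool := guard cn (finOK cell eps live T cM cn ncol)

end

end Cfsg.Agent.H07.CD.Fi23L2
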