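import Mathlib
import Cfsg.Agent.Lib.H07.CD.Fi23L4D
set_option autoImplicit false
set_option maxRecDepth 1000000
namespace Cfsg.Agent.H07.CD.Fi23L4
open Cfsg.Agent.H07.Coset Cfsg.Spor
noncomputable section
namespace LP
inductive Gen
  | b
  | c
  | d
  | e
  | f
  | h
  deriving DecidableEq
abbrev b : FreeGroup Gen := FreeGroup.of Gen.b
abbrev c : FreeGroup Gen := FreeGroup.of Gen.c
abbrev d : FreeGroup Gen := FreeGroup.of Gen.d
abbrev e : FreeGroup Gen := FreeGroup.of Gen.e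
abbrev f : FreeGroup Gen := FreeGroup.of Gen.f
abbrev h : FreeGroup Gen := FreeGroup.of Gen.h
def edges : List (Gen × ℕ × Gen) := [(.b, 3, .c), (.c, 3, .d), (.d, 3, .e), (.d, 3, .h), (.e, 3, .f)]
def extra : List (FreeGroup Gen) := [
   ]
def iota : Gen → Fi23.Gen
  | .b => .b
  | .c => .c
  | .d => .d
  | .e => .e
  | .f => .f
  | .h => .h
end LP

abbrev ncol : ℕ := 6
abbrev cM : ℕ := 432
abbrev cN : ℕ := 72
abbrev cn : ℕ := 72

def col : LP.Gen → Bool → ℕ
  | .b, true => 0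
  | .b, false => 0
  | .c, true => 1
  | .c, false => 1
  | .d, true => 2
  | .d, false => 2
  | .e, true => 3
  | .e, false => 3
  | .f, true => 4
  | .f, false => 4
  | .h, true => 5
  | .h, false => 5

def letter : ℕ → LP.Gen × Bool
  | 0 => (.b, true)
  | 1 => (.c, true)
  | 2 => (.d, true)
  | 3 => (.e, true)
  | 4 => (.f, true)
  | 5 => (.h, true)
  | _ => (.b, true)

def ybar : ℕ → ℕ
  | 0 => 0
  | 1 => 1
  | 2 => 2
  | 3 => 3
  | 4 => 4
  | 5 => 5
  | y => y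

abbrev rels : Set (FreeGroup LP.Gen) := coxRelators LP.edges ∪ {r | r ∈ LP.extra}

abbrev relL : List (FreeGroup LP.Gen) := relList LP.edges LP.extra

def Sl : List (FreeGroup LP.Gen) := [LP.b, LP.c, LP.d, LP.e, LP.f]

abbrev cS : Set (FreeGroup LP.Gen) := {LP.b, LP.c, LP.d, LP.e, LP.f}

def hwL : List (FreeGroup LP.Gen) := []

def hwf (j : ℕ) : FreeGroup LP.Gen := hwL.getD j 1

def relW : List (List ℕ) := [[0,1,0,1,0,1],[0,2,0,2],[0,3,0,3],[0,5,0,5],[0,4,0,4],[1,2,1,2,1,2],[1,3,1,3],[1,5,1,5],[1,4,1,4],[2,3,2,3,2,3],[2,5,2,5,2,5],[2,4,2,4],[3,5,3,5],[3,4,3,4,3,4],[5,4,5,4]]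

def chkW : List (List ℕ) := [[0,0],[1,1],[2,2],[3,3],[4,4],[5,5],[1,0,1,0,1,0],[2,0,2,0],[3,0,3,0],[5,0,5,0],[4,0,4,0],[2,1,2,1,2,1],[3,1,3,1],[5,1,5,1],[4,1,4,1],[3,2,3,2,3,2],[5,2,5,2,5,2],[4,2,4,2],[5,3,5,3],[4,3,4,3,4,3],[4,5,4,5]]

def psW : List (List ℕ) := []

def SW : List (List ℕ) := [[0],[1],[2],[3],[4]]

def hlet : List ℕ := [0,1,2,3,4]

def baseW : List (List ℕ) := mkBase ncol ybar relW psW

def wordT : BT (List ℕ) := (BT.node (BT.node (BT.node (BT.node (BT.node (BT.node (BT.leaf [0,0]) (BT.leaf [3,4,3,4,3,4])) (BT.node (BT.leaf [1,2,1,2,1,2]) (BT.leaf [0,0]))) (BT.node (BT.node (BT.leaf [0,2,0,2]) (BT.leaf [0,0])) (BT.node (BT.leaf [2,3,2,3,2,3]) (BT.leaf [0,0])))) (BT.node (BT.node (BT.node (BT.leaf [4,4]) (BT.leaf [0,0])) (BT.node (BT.leaf [1,5,1,5]) (BT.leaf [0,0]))) (BT.node (BT.node (BT.leaf [0,5,0,5]) (BT.leaf [0,0])) (BT.node (BT.leaf [2,4,2,4]) (BT.leaf [0,0]))))) (BT.node (BT.node (BT.node (BT.node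 (BT.leaf [2,2]) (BT.leaf [5,4,5,4])) (BT.node (BT.leaf [1,3,1,3]) (BT.leaf [0,0]))) (BT.node (BT.node (BT.leaf [0,3,0,3]) (BT.leaf [0,0])) (BT.node (BT.leaf [2,5,2,5,2,5]) (BT.leaf [0,0])))) (BT.node (BT.node (BT.node (BT.leaf [0,1,0,1,0,1]) (BT.leaf [0,0])) (BT.node (BT.leaf [1,4,1,4]) (BT.leaf [0,0]))) (BT.node (BT.node (BT.leaf [0,4,0,4]) (BT.leaf [0,0])) (BT.node (BT.leaf [3,5,3,5]) (BT.leaf [0,0])))))) (BT.node (BT.node (BT.node (BT.node (BT.node (BT.leaf [1,1]) (BT.leaf [4,3,4,3,4,3])) (BT.node (BT.leaf [2,1,2,1,2,1]) (BT.leaf [0,0]))) (BT.node (BT.node (BT.leaf [2,0,2,0]) (BT.leaf [0,0])) (BT.node (BT.leaf [3,2,3,2,3,2]) (BT.leaf [0,0])))) (BT.node (BT.node (BT.node (BT.leaf [5,5]) (BT.leaf [0,0])) (BT.node (BT.leaf [5,1,5,1]) (BT.leaf [0,0]))) (BT.node (BT.node (BT.leaf [5,0,5,0]) (BT.leaf [0,0])) (BT.node (BT.leaf [4,2,4,2]) (BT.leaf [0,0]))))) (BT.node (BT.node (BT.node (BT.node (BT.leaf [3,3]) (BT.leaf [4,5,4,5]))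 (BT.node (BT.leaf [3,1,3,1]) (BT.leaf [0,0]))) (BT.node (BT.node (BT.leaf [3,0,3,0]) (BT.leaf [0,0])) (BT.node (BT.leaf [5,2,5,2,5,2]) (BT.leaf [0,0])))) (BT.node (BT.node (BT.node (BT.leaf [1,0,1,0,1,0]) (BT.leaf [0,0])) (BT.node (BT.leaf [4,1,4,1]) (BT.leaf [0,0]))) (BT.node (BT.node (BT.leaf [4,0,4,0]) (BT.leaf [0,0])) (BT.node (BT.leaf [5,3,5,3]) (BT.leaf [0,0])))))))

def cell : ℕ → ℕ → ℕ := mkCell (rdArr cellDT 34 9 17179869183 511) cN ncol 17179869183
def eps : ℕ → ℕ := mkEps (rdArr epsDT 34 7 17179869183 127) cN 17179869183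
def stp : ℕ → ℕ := rdArr stpDT 41 9 2199023255551 511
def defs : ℕ → ℕ := rdArr defDT 15 7 32767 127
def T (i y : ℕ) : ℕ := rdArr tabDT 7 9 127 511 (Nat.add (Nat.mul i ncol) y)
def live : ℕ → ℕ := rdArr liveDT 7 7 127 127

theorem c_relW : relW.all (fun w => relL.any (fun r => w == fw col r)) = true := by decide +kernel
theorem c_ps : psW.all (fun w => (List.range 1).any (fun j => w == (ncol + 2 * j + 1) :: fw col (hwf j))) = true := by decide +kernel
theorem c_cov : relL.all (fun r => chkW.any (fun w => (List.range w.length).any (fun s => wordOf col r.toWord == w.rotate s))) = true := by decide +kernel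
theorem c_lt : chkW.all (fun w => w.all (fun y => Nat.blt y ncol)) = true := by decide +kernel
theorem c_pairs : (List.range ncol).all (fun y => chkW.contains [y, ybar y]) = true := by decide +kernel
theorem c_S : Sl.all (fun s => Nat.beq (walkR T (wordOf col s.toWord) 0) 0) = true := by decide +kernel
theorem c_hlet : hlet.all (fun y => Nat.blt y ncol && (letter y).2 && Sl.contains (FreeGroup.of (letter y).1)) = true := by decide +kernel
theorem c_sw1 : Sl.all (fun s => SW.contains (wordOf col s.toWord) && SW.contains (wordOf col (s⁻¹).toWord)) = true := by decide +kernel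
theorem c_sw2 : SW.all (fun w => Sl.any (fun s => w == wordOf col s.toWord || w == wordOf col (s⁻¹).toWord)) = true := by decide +kernel
theorem c_letter : (List.range ncol).all (fun y => Nat.beq (col (letter y).1 (letter y).2) y) = true := by decide +kernel

theorem c_leaf : BT.all (leafOK baseW) wordT = true := by decide +kernel
abbrev F_step : ℕ → Bool := guard cM (stepOK cell eps stp defs wordT.get ncol hlet)
abbrev F_cell : ℕ → Bool := guard cN (fun g => (List.range ncol).all (fun y => consCell cell stp cM g y))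
abbrev F_eps : ℕ → Bool := guard cN (consEps eps stp cM)
abbrev F_fin : ℕ → Bool := guard cn (finOK cell eps live T cM cn ncol)

end

end Cfsg.Agent.H07.CD.Fi23L4
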