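import Mathlib
import Cfsg.Agent.Lib.H07.CD.Fi23TD
set_option autoImplicit false
set_option maxRecDepth 1000000
namespace Cfsg.Agent.H07.CD.Fi23T
open Cfsg.Agent.H07.Coset Cfsg.Spor
noncomputable section

abbrev ncol : ℕ := 10
abbrev cM : ℕ := 365172
abbrev cN : ℕ := 43184
abbrev cn : ℕ := 31671

def col : Fi23.Gen → Bool → ℕ
  | .a, true => 0
  | .a, false => 0
  | .b, true => 1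
  | .b, false => 1
  | .c, true => 2
  | .c, false => 2
  | .d, true => 3
  | .d, false => 3
  | .e, true => 4
  | .e, false => 4
  | .f, true => 5
  | .f, false => 5
  | .g, true => 6
  | .g, false => 6
  | .j, true => 7
  | .j, false => 7
  | .h, true => 8
  | .h, false => 8
  | .i, true => 9
  | .i, false => 9

def letter : ℕ → Fi23.Gen × Bool
  | 0 => (.a, true)
  | 1 => (.b, true)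
  | 2 => (.c, true)
  | 3 => (.d, true)
  | 4 => (.e, true)
  | 5 => (.f, true)
  | 6 => (.g, true)
  | 7 => (.j, true)
  | 8 => (.h, true)
  | 9 => (.i, true)
  | _ => (.a, true)

def ybar : ℕ → ℕ
  | 0 => 0
  | 1 => 1
  | 2 => 2
  | 3 => 3
  | 4 => 4
  | 5 => 5
  | 6 => 6
  | 7 => 7
  | 8 => 8
  | 9 => 9
  | y => y

abbrev rels : Set (FreeGroup Fi23.Gen) := coxRelators Fi23.edges ∪ {r | r ∈ Fi23.extra}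

abbrev relL : List (FreeGroup Fi23.Gen) := relList Fi23.edges Fi23.extra

def Sl : List (FreeGroup Fi23.Gen) := [Fi23.a, Fi23.b, Fi23.c, Fi23.d, Fi23.e, Fi23.f, Fi23.g, Fi23.h, Fi23.i]

abbrev cS : Set (FreeGroup Fi23.Gen) := {Fi23.a, Fi23.b, Fi23.c, Fi23.d, Fi23.e, Fi23.f, Fi23.g, Fi23.h, Fi23.i}

def hwL : List (FreeGroup Fi23.Gen) := []

def hwf (j : ℕ) : FreeGroup Fi23.Gen := hwL.getD j 1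

def relW : List (List ℕ) := [[0,1,0,1,0,1],[0,2,0,2],[0,3,0,3],[0,4,0,4],[0,8,0,8],[0,5,0,5],[0,6,0,6],[0,7,0,7],[0,9,0,9],[1,2,1,2,1,2],[1,3,1,3],[1,4,1,4],[1,8,1,8],[1,5,1,5],[1,6,1,6],[1,7,1,7],[1,9,1,9],[2,3,2,3,2,3],[2,4,2,4],[2,8,2,8],[2,5,2,5],[2,6,2,6],[2,7,2,7],[2,9,2,9],[3,4,3,4,3,4],[3,8,3,8,3,8],[3,5,3,5],[3,6,3,6],[3,7,3,7],[3,9,3,9],[4,8,4,8],[4,5,4,5,4,5],[4,6,4,6],[4,7,4,7],[4,9,4,9],[8,5,8,5],[8,6,8,6],[8,7,8,7],[8,9,8,9,8,9],[5,6,5,6,5,6],[5,7,5,7],[5,9,5,9],[6,7,6,7,6,7],[6,9,6,9],[7,9,7,9],[3,2,1,3,4,5,3,8,9,3,2,1,3,4,5,3,8,9,3,2,1,3,4,5,3,8,9,3,2,1,3,4,5,3,8,9,3,2,1,3,4,5,3,8,9,3,2,1,3,4,5,3,8,9,3,2,1,3,4,5,3,8,9,3,2,1,3,4,5,3,8,9,3,2,1,3,4,5,3,8,9,3,2,1,3,4,5,3,8,9],[0,1,2,3,4,5,8,0,1,2,3,4,5,8,0,1,2,3,4,5,8,0,1,2,3,4,5,8,0,1,2,3,4,5,8,0,1,2,3,4,5,8,0,1,2,3,4,5,8,0,1,2,3,4,5,8,0,1,2,3,4,5,8]]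

def chkW : List (List ℕ) := [[0,0],[1,1],[2,2],[3,3],[4,4],[5,5],[6,6],[7,7],[8,8],[9,9],[1,0,1,0,1,0],[2,0,2,0],[3,0,3,0],[4,0,4,0],[8,0,8,0],[5,0,5,0],[6,0,6,0],[7,0,7,0],[9,0,9,0],[2,1,2,1,2,1],[3,1,3,1],[4,1,4,1],[8,1,8,1],[5,1,5,1],[6,1,6,1],[7,1,7,1],[9,1,9,1],[3,2,3,2,3,2],[4,2,4,2],[8,2,8,2],[5,2,5,2],[6,2,6,2],[7,2,7,2],[9,2,9,2],[4,3,4,3,4,3],[8,3,8,3,8,3],[5,3,5,3],[6,3,6,3],[7,3,7,3],[9,3,9,3],[8,4,8,4],[5,4,5,4,5,4],[6,4,6,4],[7,4,7,4],[9,4,9,4],[5,8,5,8],[6,8,6,8],[7,8,7,8],[9,8,9,8,9,8],[6,5,6,5,6,5],[7,5,7,5],[9,5,9,5],[7,6,7,6,7,6],[9,6,9,6],[9,7,9,7],[9,8,3,5,4,3,1,2,3,9,8,3,5,4,3,1,2,3,9,8,3,5,4,3,1,2,3,9,8,3,5,4,3,1,2,3,9,8,3,5,4,3,1,2,3,9,8,3,5,4,3,1,2,3,9,8,3,5,4,3,1,2,3,9,8,3,5,4,3,1,2,3,9,8,3,5,4,3,1,2,3,9,8,3,5,4,3,1,2,3],[8,5,4,3,2,1,0,8,5,4,3,2,1,0,8,5,4,3,2,1,0,8,5,4,3,2,1,0,8,5,4,3,2,1,0,8,5,4,3,2,1,0,8,5,4,3,2,1,0,8,5,4,3,2,1,0,8,5,4,3,2,1,0]]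

def psW : List (List ℕ) := []

def SW : List (List ℕ) := [[0],[1],[2],[3],[4],[5],[6],[8],[9]]

def hlet : List ℕ := [0,1,2,3,4,5,6,8,9]

def baseW : List (List ℕ) := mkBase ncol ybar relW psW

def wordT : BT (List ℕ) := (BT.node (BT.node (BT.node (BT.node (BT.node (BT.node (BT.node (BT.node (BT.leaf [0,0]) (BT.leaf [3,2,1,0,8,5,4,3,2,1,0,8,5,4,3,2,1,0,8,5,4,3,2,1,0,8,5,4,3,2,1,0,8,5,4,3,2,1,0,8,5,4,3,2,1,0,8,5,4,3,2,1,0,8,5,4,3,2,1,0,8,5,4])) (BT.node (BT.leaf [3,6,3,6]) (BT.leaf [0,0]))) (BT.node (BT.node (BT.leaf [1,4,1,4]) (BT.leaf [0,0])) (BT.node (BT.leaf [6,9,6,9]) (BT.leaf [0,0])))) (BT.node (BT.node (BT.node (BT.leaf [0,4,0,4]) (BT.leaf [0,0])) (BT.node (BT.leaf [8,5,8,5]) (BT.leaf [0,0]))) (BT.node (BT.node (BT.leaf [2,8,2,8]) (BT.leaf [0,0]))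 (BT.node (BT.leaf [5,4,3,1,2,3,9,8,3,5,4,3,1,2,3,9,8,3,5,4,3,1,2,3,9,8,3,5,4,3,1,2,3,9,8,3,5,4,3,1,2,3,9,8,3,5,4,3,1,2,3,9,8,3,5,4,3,1,2,3,9,8,3,5,4,3,1,2,3,9,8,3,5,4,3,1,2,3,9,8,3,5,4,3,1,2,3,9,8,3]) (BT.leaf [0,0]))))) (BT.node (BT.node (BT.node (BT.node (BT.leaf [8,8]) (BT.leaf [0,0])) (BT.node (BT.leaf [4,5,4,5,4,5]) (BT.leaf [0,0]))) (BT.node (BT.node (BT.leaf [1,7,1,7]) (BT.leaf [0,0])) (BT.node (BT.leaf [4,5,3,8,9,3,2,1,3,4,5,3,8,9,3,2,1,3,4,5,3,8,9,3,2,1,3,4,5,3,8,9,3,2,1,3,4,5,3,8,9,3,2,1,3,4,5,3,8,9,3,2,1,3,4,5,3,8,9,3,2,1,3,4,5,3,8,9,3,2,1,3,4,5,3,8,9,3,2,1,3,4,5,3,8,9,3,2,1,3]) (BT.leaf [0,0])))) (BT.node (BT.node (BT.node (BT.leaf [0,7,0,7]) (BT.leaf [0,0])) (BT.node (BT.leaf [5,6,5,6,5,6]) (BT.leaf [0,0]))) (BT.node (BT.node (BT.leaf [2,9,2,9])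 (BT.leaf [0,0])) (BT.node (BT.leaf [2,3,4,5,8,0,1,2,3,4,5,8,0,1,2,3,4,5,8,0,1,2,3,4,5,8,0,1,2,3,4,5,8,0,1,2,3,4,5,8,0,1,2,3,4,5,8,0,1,2,3,4,5,8,0,1,2,3,4,5,8,0,1]) (BT.leaf [0,0])))))) (BT.node (BT.node (BT.node (BT.node (BT.node (BT.leaf [4,4]) (BT.leaf [0,0])) (BT.node (BT.leaf [3,9,3,9]) (BT.leaf [0,0]))) (BT.node (BT.node (BT.leaf [1,5,1,5]) (BT.leaf [0,0])) (BT.node (BT.leaf [3,2,1,3,4,5,3,8,9,3,2,1,3,4,5,3,8,9,3,2,1,3,4,5,3,8,9,3,2,1,3,4,5,3,8,9,3,2,1,3,4,5,3,8,9,3,2,1,3,4,5,3,8,9,3,2,1,3,4,5,3,8,9,3,2,1,3,4,5,3,8,9,3,2,1,3,4,5,3,8,9,3,2,1,3,4,5,3,8,9]) (BT.leaf [0,0])))) (BT.node (BT.node (BT.node (BT.leaf [0,5,0,5]) (BT.leaf [0,0])) (BT.node (BT.leaf [8,7,8,7]) (BT.leaf [0,0]))) (BT.node (BT.node (BT.leaf [2,6,2,6]) (BT.leaf [0,0])) (BT.node (BT.leaf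 [2,3,9,8,3,5,4,3,1,2,3,9,8,3,5,4,3,1,2,3,9,8,3,5,4,3,1,2,3,9,8,3,5,4,3,1,2,3,9,8,3,5,4,3,1,2,3,9,8,3,5,4,3,1,2,3,9,8,3,5,4,3,1,2,3,9,8,3,5,4,3,1,2,3,9,8,3,5,4,3,1,2,3,9,8,3,5,4,3,1]) (BT.leaf [0,0]))))) (BT.node (BT.node (BT.node (BT.node (BT.leaf [0,2,0,2]) (BT.leaf [0,0])) (BT.node (BT.leaf [4,7,4,7]) (BT.leaf [0,0]))) (BT.node (BT.node (BT.leaf [2,3,2,3,2,3]) (BT.leaf [0,0])) (BT.node (BT.leaf [9,3,2,1,3,4,5,3,8,9,3,2,1,3,4,5,3,8,9,3,2,1,3,4,5,3,8,9,3,2,1,3,4,5,3,8,9,3,2,1,3,4,5,3,8,9,3,2,1,3,4,5,3,8,9,3,2,1,3,4,5,3,8,9,3,2,1,3,4,5,3,8,9,3,2,1,3,4,5,3,8,9,3,2,1,3,4,5,3,8]) (BT.leaf [0,0])))) (BT.node (BT.node (BT.node (BT.leaf [1,2,1,2,1,2]) (BT.leaf [0,0])) (BT.node (BT.leaf [5,9,5,9]) (BT.leaf [0,0]))) (BT.node (BT.node (BT.leaf [3,8,3,8,3,8]) (BT.leaf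 [0,0])) (BT.node (BT.leaf [8,0,1,2,3,4,5,8,0,1,2,3,4,5,8,0,1,2,3,4,5,8,0,1,2,3,4,5,8,0,1,2,3,4,5,8,0,1,2,3,4,5,8,0,1,2,3,4,5,8,0,1,2,3,4,5,8,0,1,2,3,4,5]) (BT.leaf [0,0]))))))) (BT.node (BT.node (BT.node (BT.node (BT.node (BT.node (BT.leaf [2,2]) (BT.leaf [1,0,8,5,4,3,2,1,0,8,5,4,3,2,1,0,8,5,4,3,2,1,0,8,5,4,3,2,1,0,8,5,4,3,2,1,0,8,5,4,3,2,1,0,8,5,4,3,2,1,0,8,5,4,3,2,1,0,8,5,4,3,2])) (BT.node (BT.leaf [3,7,3,7]) (BT.leaf [0,0]))) (BT.node (BT.node (BT.leaf [1,8,1,8]) (BT.leaf [0,0])) (BT.node (BT.leaf [7,9,7,9]) (BT.leaf [0,0])))) (BT.node (BT.node (BT.node (BT.leaf [0,8,0,8]) (BT.leaf [0,0])) (BT.node (BT.leaf [8,6,8,6]) (BT.leaf [0,0]))) (BT.node (BT.node (BT.leaf [2,5,2,5]) (BT.leaf [0,0])) (BT.node (BT.leaf [3,1,2,3,9,8,3,5,4,3,1,2,3,9,8,3,5,4,3,1,2,3,9,8,3,5,4,3,1,2,3,9,8,3,5,4,3,1,2,3,9,8,3,5,4,3,1,2,3,9,8,3,5,4,3,1,2,3,9,8,3,5,4,3,1,2,3,9,8,3,5,4,3,1,2,3,9,8,3,5,4,3,1,2,3,9,8,3,5,4])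 (BT.leaf [0,0]))))) (BT.node (BT.node (BT.node (BT.node (BT.leaf [0,1,0,1,0,1]) (BT.leaf [0,0])) (BT.node (BT.leaf [4,6,4,6]) (BT.leaf [0,0]))) (BT.node (BT.node (BT.leaf [1,9,1,9]) (BT.leaf [0,0])) (BT.node (BT.leaf [3,8,9,3,2,1,3,4,5,3,8,9,3,2,1,3,4,5,3,8,9,3,2,1,3,4,5,3,8,9,3,2,1,3,4,5,3,8,9,3,2,1,3,4,5,3,8,9,3,2,1,3,4,5,3,8,9,3,2,1,3,4,5,3,8,9,3,2,1,3,4,5,3,8,9,3,2,1,3,4,5,3,8,9,3,2,1,3,4,5]) (BT.leaf [0,0])))) (BT.node (BT.node (BT.node (BT.leaf [0,9,0,9]) (BT.leaf [0,0])) (BT.node (BT.leaf [5,7,5,7]) (BT.leaf [0,0]))) (BT.node (BT.node (BT.leaf [3,4,3,4,3,4]) (BT.leaf [0,0])) (BT.node (BT.leaf [4,5,8,0,1,2,3,4,5,8,0,1,2,3,4,5,8,0,1,2,3,4,5,8,0,1,2,3,4,5,8,0,1,2,3,4,5,8,0,1,2,3,4,5,8,0,1,2,3,4,5,8,0,1,2,3,4,5,8,0,1,2,3]) (BT.leaf [0,0])))))) (BT.node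 (BT.node (BT.node (BT.node (BT.node (BT.leaf [6,6]) (BT.leaf [0,0])) (BT.node (BT.leaf [4,8,4,8]) (BT.leaf [0,0]))) (BT.node (BT.node (BT.leaf [1,6,1,6]) (BT.leaf [0,0])) (BT.node (BT.leaf [1,3,4,5,3,8,9,3,2,1,3,4,5,3,8,9,3,2,1,3,4,5,3,8,9,3,2,1,3,4,5,3,8,9,3,2,1,3,4,5,3,8,9,3,2,1,3,4,5,3,8,9,3,2,1,3,4,5,3,8,9,3,2,1,3,4,5,3,8,9,3,2,1,3,4,5,3,8,9,3,2,1,3,4,5,3,8,9,3,2]) (BT.leaf [0,0])))) (BT.node (BT.node (BT.node (BT.leaf [0,6,0,6]) (BT.leaf [0,0])) (BT.node (BT.leaf [8,9,8,9,8,9]) (BT.leaf [0,0]))) (BT.node (BT.node (BT.leaf [2,7,2,7]) (BT.leaf [0,0])) (BT.node (BT.leaf [0,1,2,3,4,5,8,0,1,2,3,4,5,8,0,1,2,3,4,5,8,0,1,2,3,4,5,8,0,1,2,3,4,5,8,0,1,2,3,4,5,8,0,1,2,3,4,5,8,0,1,2,3,4,5,8,0,1,2,3,4,5,8]) (BT.leaf [0,0]))))) (BT.node (BT.node (BT.node (BT.node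 (BT.leaf [0,3,0,3]) (BT.leaf [0,0])) (BT.node (BT.leaf [4,9,4,9]) (BT.leaf [0,0]))) (BT.node (BT.node (BT.leaf [2,4,2,4]) (BT.leaf [0,0])) (BT.node (BT.leaf [8,3,5,4,3,1,2,3,9,8,3,5,4,3,1,2,3,9,8,3,5,4,3,1,2,3,9,8,3,5,4,3,1,2,3,9,8,3,5,4,3,1,2,3,9,8,3,5,4,3,1,2,3,9,8,3,5,4,3,1,2,3,9,8,3,5,4,3,1,2,3,9,8,3,5,4,3,1,2,3,9,8,3,5,4,3,1,2,3,9]) (BT.leaf [0,0])))) (BT.node (BT.node (BT.node (BT.leaf [1,3,1,3]) (BT.leaf [0,0])) (BT.node (BT.leaf [6,7,6,7,6,7]) (BT.leaf [0,0]))) (BT.node (BT.node (BT.leaf [3,5,3,5]) (BT.leaf [0,0])) (BT.node (BT.leaf [5,4,3,2,1,0,8,5,4,3,2,1,0,8,5,4,3,2,1,0,8,5,4,3,2,1,0,8,5,4,3,2,1,0,8,5,4,3,2,1,0,8,5,4,3,2,1,0,8,5,4,3,2,1,0,8,5,4,3,2,1,0,8]) (BT.leaf [0,0])))))))) (BT.node (BT.node (BT.node (BT.node (BT.node (BT.node (BT.node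 (BT.leaf [1,1]) (BT.leaf [2,1,0,8,5,4,3,2,1,0,8,5,4,3,2,1,0,8,5,4,3,2,1,0,8,5,4,3,2,1,0,8,5,4,3,2,1,0,8,5,4,3,2,1,0,8,5,4,3,2,1,0,8,5,4,3,2,1,0,8,5,4,3])) (BT.node (BT.leaf [6,3,6,3]) (BT.leaf [0,0]))) (BT.node (BT.node (BT.leaf [4,1,4,1]) (BT.leaf [0,0])) (BT.node (BT.leaf [9,6,9,6]) (BT.leaf [0,0])))) (BT.node (BT.node (BT.node (BT.leaf [4,0,4,0]) (BT.leaf [0,0])) (BT.node (BT.leaf [5,8,5,8]) (BT.leaf [0,0]))) (BT.node (BT.node (BT.leaf [8,2,8,2]) (BT.leaf [0,0])) (BT.node (BT.leaf [4,3,1,2,3,9,8,3,5,4,3,1,2,3,9,8,3,5,4,3,1,2,3,9,8,3,5,4,3,1,2,3,9,8,3,5,4,3,1,2,3,9,8,3,5,4,3,1,2,3,9,8,3,5,4,3,1,2,3,9,8,3,5,4,3,1,2,3,9,8,3,5,4,3,1,2,3,9,8,3,5,4,3,1,2,3,9,8,3,5]) (BT.leaf [0,0]))))) (BT.node (BT.node (BT.node (BT.node (BT.leaf [9,9]) (BT.leaf [0,0])) (BT.node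 (BT.leaf [5,4,5,4,5,4]) (BT.leaf [0,0]))) (BT.node (BT.node (BT.leaf [7,1,7,1]) (BT.leaf [0,0])) (BT.node (BT.leaf [5,3,8,9,3,2,1,3,4,5,3,8,9,3,2,1,3,4,5,3,8,9,3,2,1,3,4,5,3,8,9,3,2,1,3,4,5,3,8,9,3,2,1,3,4,5,3,8,9,3,2,1,3,4,5,3,8,9,3,2,1,3,4,5,3,8,9,3,2,1,3,4,5,3,8,9,3,2,1,3,4,5,3,8,9,3,2,1,3,4]) (BT.leaf [0,0])))) (BT.node (BT.node (BT.node (BT.leaf [7,0,7,0]) (BT.leaf [0,0])) (BT.node (BT.leaf [6,5,6,5,6,5]) (BT.leaf [0,0]))) (BT.node (BT.node (BT.leaf [9,2,9,2]) (BT.leaf [0,0])) (BT.node (BT.leaf [3,4,5,8,0,1,2,3,4,5,8,0,1,2,3,4,5,8,0,1,2,3,4,5,8,0,1,2,3,4,5,8,0,1,2,3,4,5,8,0,1,2,3,4,5,8,0,1,2,3,4,5,8,0,1,2,3,4,5,8,0,1,2]) (BT.leaf [0,0])))))) (BT.node (BT.node (BT.node (BT.node (BT.node (BT.leaf [5,5]) (BT.leaf [0,0])) (BT.node (BT.leaf [9,3,9,3])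 (BT.leaf [0,0]))) (BT.node (BT.node (BT.leaf [5,1,5,1]) (BT.leaf [0,0])) (BT.node (BT.leaf [2,1,3,4,5,3,8,9,3,2,1,3,4,5,3,8,9,3,2,1,3,4,5,3,8,9,3,2,1,3,4,5,3,8,9,3,2,1,3,4,5,3,8,9,3,2,1,3,4,5,3,8,9,3,2,1,3,4,5,3,8,9,3,2,1,3,4,5,3,8,9,3,2,1,3,4,5,3,8,9,3,2,1,3,4,5,3,8,9,3]) (BT.leaf [0,0])))) (BT.node (BT.node (BT.node (BT.leaf [5,0,5,0]) (BT.leaf [0,0])) (BT.node (BT.leaf [7,8,7,8]) (BT.leaf [0,0]))) (BT.node (BT.node (BT.leaf [6,2,6,2]) (BT.leaf [0,0])) (BT.node (BT.leaf [3,9,8,3,5,4,3,1,2,3,9,8,3,5,4,3,1,2,3,9,8,3,5,4,3,1,2,3,9,8,3,5,4,3,1,2,3,9,8,3,5,4,3,1,2,3,9,8,3,5,4,3,1,2,3,9,8,3,5,4,3,1,2,3,9,8,3,5,4,3,1,2,3,9,8,3,5,4,3,1,2,3,9,8,3,5,4,3,1,2]) (BT.leaf [0,0]))))) (BT.node (BT.node (BT.node (BT.node (BT.leaf [2,0,2,0]) (BT.leaf [0,0])) (BT.node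 (BT.leaf [7,4,7,4]) (BT.leaf [0,0]))) (BT.node (BT.node (BT.leaf [3,2,3,2,3,2]) (BT.leaf [0,0])) (BT.node (BT.leaf [9,8,3,5,4,3,1,2,3,9,8,3,5,4,3,1,2,3,9,8,3,5,4,3,1,2,3,9,8,3,5,4,3,1,2,3,9,8,3,5,4,3,1,2,3,9,8,3,5,4,3,1,2,3,9,8,3,5,4,3,1,2,3,9,8,3,5,4,3,1,2,3,9,8,3,5,4,3,1,2,3,9,8,3,5,4,3,1,2,3]) (BT.leaf [0,0])))) (BT.node (BT.node (BT.node (BT.leaf [2,1,2,1,2,1]) (BT.leaf [0,0])) (BT.node (BT.leaf [9,5,9,5]) (BT.leaf [0,0]))) (BT.node (BT.node (BT.leaf [8,3,8,3,8,3]) (BT.leaf [0,0])) (BT.node (BT.leaf [8,5,4,3,2,1,0,8,5,4,3,2,1,0,8,5,4,3,2,1,0,8,5,4,3,2,1,0,8,5,4,3,2,1,0,8,5,4,3,2,1,0,8,5,4,3,2,1,0,8,5,4,3,2,1,0,8,5,4,3,2,1,0]) (BT.leaf [0,0]))))))) (BT.node (BT.node (BT.node (BT.node (BT.node (BT.node (BT.leaf [3,3]) (BT.leaf [0,8,5,4,3,2,1,0,8,5,4,3,2,1,0,8,5,4,3,2,1,0,8,5,4,3,2,1,0,8,5,4,3,2,1,0,8,5,4,3,2,1,0,8,5,4,3,2,1,0,8,5,4,3,2,1,0,8,5,4,3,2,1]))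 (BT.node (BT.leaf [7,3,7,3]) (BT.leaf [0,0]))) (BT.node (BT.node (BT.leaf [8,1,8,1]) (BT.leaf [0,0])) (BT.node (BT.leaf [9,7,9,7]) (BT.leaf [0,0])))) (BT.node (BT.node (BT.node (BT.leaf [8,0,8,0]) (BT.leaf [0,0])) (BT.node (BT.leaf [6,8,6,8]) (BT.leaf [0,0]))) (BT.node (BT.node (BT.leaf [5,2,5,2]) (BT.leaf [0,0])) (BT.node (BT.leaf [1,2,3,9,8,3,5,4,3,1,2,3,9,8,3,5,4,3,1,2,3,9,8,3,5,4,3,1,2,3,9,8,3,5,4,3,1,2,3,9,8,3,5,4,3,1,2,3,9,8,3,5,4,3,1,2,3,9,8,3,5,4,3,1,2,3,9,8,3,5,4,3,1,2,3,9,8,3,5,4,3,1,2,3,9,8,3,5,4,3]) (BT.leaf [0,0]))))) (BT.node (BT.node (BT.node (BT.node (BT.leaf [1,0,1,0,1,0]) (BT.leaf [0,0])) (BT.node (BT.leaf [6,4,6,4]) (BT.leaf [0,0]))) (BT.node (BT.node (BT.leaf [9,1,9,1]) (BT.leaf [0,0])) (BT.node (BT.leaf [8,9,3,2,1,3,4,5,3,8,9,3,2,1,3,4,5,3,8,9,3,2,1,3,4,5,3,8,9,3,2,1,3,4,5,3,8,9,3,2,1,3,4,5,3,8,9,3,2,1,3,4,5,3,8,9,3,2,1,3,4,5,3,8,9,3,2,1,3,4,5,3,8,9,3,2,1,3,4,5,3,8,9,3,2,1,3,4,5,3])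 (BT.leaf [0,0])))) (BT.node (BT.node (BT.node (BT.leaf [9,0,9,0]) (BT.leaf [0,0])) (BT.node (BT.leaf [7,5,7,5]) (BT.leaf [0,0]))) (BT.node (BT.node (BT.leaf [4,3,4,3,4,3]) (BT.leaf [0,0])) (BT.node (BT.leaf [5,8,0,1,2,3,4,5,8,0,1,2,3,4,5,8,0,1,2,3,4,5,8,0,1,2,3,4,5,8,0,1,2,3,4,5,8,0,1,2,3,4,5,8,0,1,2,3,4,5,8,0,1,2,3,4,5,8,0,1,2,3,4]) (BT.leaf [0,0])))))) (BT.node (BT.node (BT.node (BT.node (BT.node (BT.leaf [7,7]) (BT.leaf [0,0])) (BT.node (BT.leaf [8,4,8,4]) (BT.leaf [0,0]))) (BT.node (BT.node (BT.leaf [6,1,6,1]) (BT.leaf [0,0])) (BT.node (BT.leaf [3,4,5,3,8,9,3,2,1,3,4,5,3,8,9,3,2,1,3,4,5,3,8,9,3,2,1,3,4,5,3,8,9,3,2,1,3,4,5,3,8,9,3,2,1,3,4,5,3,8,9,3,2,1,3,4,5,3,8,9,3,2,1,3,4,5,3,8,9,3,2,1,3,4,5,3,8,9,3,2,1,3,4,5,3,8,9,3,2,1]) (BT.leaf [0,0])))) (BT.node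 (BT.node (BT.node (BT.leaf [6,0,6,0]) (BT.leaf [0,0])) (BT.node (BT.leaf [9,8,9,8,9,8]) (BT.leaf [0,0]))) (BT.node (BT.node (BT.leaf [7,2,7,2]) (BT.leaf [0,0])) (BT.node (BT.leaf [1,2,3,4,5,8,0,1,2,3,4,5,8,0,1,2,3,4,5,8,0,1,2,3,4,5,8,0,1,2,3,4,5,8,0,1,2,3,4,5,8,0,1,2,3,4,5,8,0,1,2,3,4,5,8,0,1,2,3,4,5,8,0]) (BT.leaf [0,0]))))) (BT.node (BT.node (BT.node (BT.node (BT.leaf [3,0,3,0]) (BT.leaf [0,0])) (BT.node (BT.leaf [9,4,9,4]) (BT.leaf [0,0]))) (BT.node (BT.node (BT.leaf [4,2,4,2]) (BT.leaf [0,0])) (BT.node (BT.leaf [3,5,4,3,1,2,3,9,8,3,5,4,3,1,2,3,9,8,3,5,4,3,1,2,3,9,8,3,5,4,3,1,2,3,9,8,3,5,4,3,1,2,3,9,8,3,5,4,3,1,2,3,9,8,3,5,4,3,1,2,3,9,8,3,5,4,3,1,2,3,9,8,3,5,4,3,1,2,3,9,8,3,5,4,3,1,2,3,9,8]) (BT.leaf [0,0])))) (BT.node (BT.node (BT.node (BT.leaf [3,1,3,1])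 (BT.leaf [0,0])) (BT.node (BT.leaf [7,6,7,6,7,6]) (BT.leaf [0,0]))) (BT.node (BT.node (BT.leaf [5,3,5,3]) (BT.leaf [0,0])) (BT.node (BT.leaf [4,3,2,1,0,8,5,4,3,2,1,0,8,5,4,3,2,1,0,8,5,4,3,2,1,0,8,5,4,3,2,1,0,8,5,4,3,2,1,0,8,5,4,3,2,1,0,8,5,4,3,2,1,0,8,5,4,3,2,1,0,8,5]) (BT.leaf [0,0])))))))))

def cell : ℕ → ℕ → ℕ := mkCell (rdArr cellDT 44 11 17592186044415 2047) cN ncol 17592186044415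
def eps : ℕ → ℕ := mkEps (rdArr epsDT 44 11 17592186044415 2047) cN 17592186044415
def stp : ℕ → ℕ := rdArr stpDT 50 11 1125899906842623 2047
def defs : ℕ → ℕ := rdArr defDT 24 12 16777215 4095
def T (i y : ℕ) : ℕ := rdArr tabDT 15 13 32767 8191 (Nat.add (Nat.mul i ncol) y)
def live : ℕ → ℕ := rdArr liveDT 16 12 65535 4095

theorem c_relW : relW.all (fun w => relL.any (fun r => w == fw col r)) = true := by decide +kernel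
theorem c_ps : psW.all (fun w => (List.range 1).any (fun j => w == (ncol + 2 * j + 1) :: fw col (hwf j))) = true := by decide +kernel
theorem c_cov : relL.all (fun r => chkW.any (fun w => (List.range w.length).any (fun s => wordOf col r.toWord == w.rotate s))) = true := by decide +kernel
theorem c_lt : chkW.all (fun w => w.all (fun y => Nat.blt y ncol)) = true := by decide +kernel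
theorem c_pairs : (List.range ncol).all (fun y => chkW.contains [y, ybar y]) = true := by decide +kernel
theorem c_S : Sl.all (fun s => Nat.beq (walkR T (wordOf col s.toWord) 0) 0) = true := by decide +kernel
theorem c_hlet : hlet.all (fun y => Nat.blt y ncol && (letter y).2 && Sl.contains (FreeGroup.of (letter y).1)) = true := by decide +kernel
theorem c_sw1 : Sl.all (fun s => SW.contains (wordOf col s.toWord) && SW.contains (wordOf col (s⁻¹).toWord)) = true := by decide +kernel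
theorem c_sw2 : SW.all (fun w => Sl.any (fun s => w == wordOf col s.toWord || w == wordOf col (s⁻¹).toWord)) = true := by decide +kernel
theorem c_letter : (List.range ncol).all (fun y => Nat.beq (col (letter y).1 (letter y).2) y) = true := by decide +kernel

theorem c_leaf : BT.all (leafOK baseW) wordT = true := by decide +kernel
abbrev F_step : ℕ → Bool := guard cM (stepOK cell eps stp defs wordT.get ncol hlet)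
abbrev F_cell : ℕ → Bool := guard cN (fun g => (List.range ncol).all (fun y => consCell cell stp cM g y))
abbrev F_eps : ℕ → Bool := guard cN (consEps eps stp cM)
abbrev F_fin : ℕ → Bool := guard cn (finOK cell eps live T cM cn ncol)
abbrev F_rel : ℕ → Bool := guard cn (relOK T chkW)
abbrev F_desc : ℕ → Bool := guard cn (descOK T ncol SW)
abbrev F_orb0 : ℕ → Bool := guard cn (orbOK T SW 1 28161)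
abbrev F_orb1 : ℕ → Bool := guard cn (orbOK T SW 28161 31671)

end

end Cfsg.Agent.H07.CD.Fi23T
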