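import Mathlib
import Cfsg.Agent.Lib.H07.CD.He2058D
set_option autoImplicit false
set_option maxRecDepth 1000000
namespace Cfsg.Agent.H07.CD.He2058
open Cfsg.Agent.H07.Coset Cfsg.Spor
noncomputable section

abbrev ncol : ℕ := 7
abbrev cM : ℕ := 26495
abbrev cN : ℕ := 5076
abbrev cn : ℕ := 2058

def col : He.Gen → Bool → ℕ
  | .a, true => 0
  | .a, false => 0
  | .b, true => 1
  | .b, false => 1
  | .c, true => 2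
  | .c, false => 2
  | .d, true => 3
  | .d, false => 3
  | .e, true => 4
  | .e, false => 4
  | .f, true => 5
  | .f, false => 5
  | .g, true => 6
  | .g, false => 6

def letter : ℕ → He.Gen × Bool
  | 0 => (.a, true)
  | 1 => (.b, true)
  | 2 => (.c, true)
  | 3 => (.d, true)
  | 4 => (.e, true)
  | 5 => (.f, true)
  | 6 => (.g, true)
  | _ => (.a, true)

def ybar : ℕ → ℕ
  | 0 => 0
  | 1 => 1
  | 2 => 2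
  | 3 => 3
  | 4 => 4
  | 5 => 5
  | 6 => 6
  | y => y

abbrev rels : Set (FreeGroup He.Gen) := coxRelators He.edges ∪ {r | r ∈ He.extra}

abbrev relL : List (FreeGroup He.Gen) := relList He.edges He.extra

def Sl : List (FreeGroup He.Gen) := [He.a, He.c, He.d, He.e, He.f, (He.a * He.b) ^ 2, (He.b * He.c * He.d * He.e) ^ 7]

abbrev cS : Set (FreeGroup He.Gen) := {He.a, He.c, He.d, He.e, He.f, (He.a * He.b) ^ 2, (He.b * He.c * He.d * He.e) ^ 7}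

def hwL : List (FreeGroup He.Gen) := [(He.a * He.b) ^ 2, (He.b * He.c * He.d * He.e) ^ 7]

def hwf (j : ℕ) : FreeGroup He.Gen := hwL.getD j 1

def relW : List (List ℕ) := [[0,1,0,1,0,1,0,1],[0,2,0,2],[0,3,0,3],[0,4,0,4],[0,5,0,5],[0,6,0,6],[1,2,1,2,1,2],[1,3,1,3],[1,4,1,4],[1,5,1,5],[1,6,1,6],[2,3,2,3,2,3,2,3,2,3,2,3,2,3,2,3,2,3,2,3],[2,4,2,4],[2,5,2,5],[2,6,2,6],[3,4,3,4,3,4],[3,5,3,5,3,5],[3,6,3,6,3,6],[4,5,4,5],[4,6,4,6],[5,6,5,6,5,6,5,6],[4,6,5,6,5],[4,2,1,0,2,1,0,2,1,0],[0,3,2,3,2,3,2,3,2,3,2],[2,3,5,6,2,3,5,6,2,3,5,6,2,3,5,6]]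

def chkW : List (List ℕ) := [[0,0],[1,1],[2,2],[3,3],[4,4],[5,5],[6,6],[1,0,1,0,1,0,1,0],[2,0,2,0],[3,0,3,0],[4,0,4,0],[5,0,5,0],[6,0,6,0],[2,1,2,1,2,1],[3,1,3,1],[4,1,4,1],[5,1,5,1],[6,1,6,1],[3,2,3,2,3,2,3,2,3,2,3,2,3,2,3,2,3,2,3,2],[4,2,4,2],[5,2,5,2],[6,2,6,2],[4,3,4,3,4,3],[5,3,5,3,5,3],[6,3,6,3,6,3],[5,4,5,4],[6,4,6,4],[6,5,6,5,6,5,6,5],[5,6,5,6,4],[0,1,2,0,1,2,0,1,2,4],[2,3,2,3,2,3,2,3,2,3,0],[6,5,3,2,6,5,3,2,6,5,3,2,6,5,3,2]]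

def psW : List (List ℕ) := [[8,0,1,0,1],[10,1,2,3,4,1,2,3,4,1,2,3,4,1,2,3,4,1,2,3,4,1,2,3,4,1,2,3,4]]

def SW : List (List ℕ) := [[0],[2],[3],[4],[5],[1,0,1,0],[0,1,0,1],[4,3,2,1,4,3,2,1,4,3,2,1,4,3,2,1,4,3,2,1,4,3,2,1,4,3,2,1],[1,2,3,4,1,2,3,4,1,2,3,4,1,2,3,4,1,2,3,4,1,2,3,4,1,2,3,4]]

def hlet : List ℕ := [0,2,3,4,5]

def baseW : List (List ℕ) := mkBase ncol ybar relW psW

def wordT : BT (List ℕ) := (BT.node (BT.node (BT.node (BT.node (BT.node (BT.node (BT.node (BT.node (BT.leaf [0,0]) (BT.leaf [2,3,4,1,2,3,4,1,2,3,4,1,2,3,4,10,1,2,3,4,1,2,3,4,1,2,3,4,1])) (BT.node (BT.leaf [1,0,2,1,0,4,2,1,0,2]) (BT.leaf [0,0]))) (BT.node (BT.node (BT.leaf [4,2,4,2]) (BT.leaf [0,0])) (BT.node (BT.leaf [2,3,2,3,0,2,3,2,3,2,3]) (BT.leaf [0,0])))) (BT.node (BT.node (BT.node (BT.leaf [5,0,5,0]) (BT.leaf [0,0])) (BT.node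 (BT.leaf [3,2,3,2,3,2,3,2,3,2,0]) (BT.leaf [0,0]))) (BT.node (BT.node (BT.leaf [6,5,6,5,6,5,6,5]) (BT.leaf [0,0])) (BT.node (BT.leaf [0,1,8,0,1]) (BT.leaf [0,0]))))) (BT.node (BT.node (BT.node (BT.node (BT.leaf [1,0,1,0,1,0,1,0]) (BT.leaf [2,3,4,1,2,3,4,10,1,2,3,4,1,2,3,4,1,2,3,4,1,2,3,4,1,2,3,4,1])) (BT.node (BT.leaf [0,1,2,0,1,2,4,0,1,2]) (BT.leaf [0,0]))) (BT.node (BT.node (BT.leaf [5,3,5,3,5,3]) (BT.leaf [0,0])) (BT.node (BT.leaf [6,2,3,5,6,2,3,5,6,2,3,5,6,2,3,5]) (BT.leaf [0,0])))) (BT.node (BT.node (BT.node (BT.leaf [4,1,4,1]) (BT.leaf [0,0])) (BT.node (BT.leaf [3,2,0,3,2,3,2,3,2,3,2]) (BT.leaf [0,0]))) (BT.node (BT.node (BT.leaf [5,6,4,5,6]) (BT.leaf [0,0])) (BT.node (BT.leaf [2,3,4,1,2,3,4,1,2,3,4,1,2,3,4,1,2,3,4,1,2,3,4,10,1,2,3,4,1]) (BT.leaf [0,0])))))) (BT.node (BT.node (BT.node (BT.node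 (BT.node (BT.leaf [4,4]) (BT.leaf [2,3,4,1,2,3,4,1,2,3,4,10,1,2,3,4,1,2,3,4,1,2,3,4,1,2,3,4,1])) (BT.node (BT.leaf [0,4,2,1,0,2,1,0,2,1]) (BT.leaf [0,0]))) (BT.node (BT.node (BT.leaf [6,2,6,2]) (BT.leaf [0,0])) (BT.node (BT.leaf [0,2,3,2,3,2,3,2,3,2,3]) (BT.leaf [0,0])))) (BT.node (BT.node (BT.node (BT.leaf [2,1,2,1,2,1]) (BT.leaf [0,0])) (BT.node (BT.leaf [3,2,3,2,3,2,0,3,2,3,2]) (BT.leaf [0,0]))) (BT.node (BT.node (BT.leaf [6,5,4,6,5]) (BT.leaf [0,0])) (BT.node (BT.leaf [2,3,4,1,2,3,4,1,2,3,4,1,2,3,4,1,2,3,4,1,2,3,4,1,2,3,4,10,1]) (BT.leaf [0,0]))))) (BT.node (BT.node (BT.node (BT.node (BT.leaf [3,0,3,0]) (BT.leaf [2,3,4,10,1,2,3,4,1,2,3,4,1,2,3,4,1,2,3,4,1,2,3,4,1,2,3,4,1])) (BT.node (BT.leaf [1,2,4,0,1,2,0,1,2,0]) (BT.leaf [0,0]))) (BT.node (BT.node (BT.leaf [5,4,5,4]) (BT.leaf [0,0])) (BT.node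 (BT.leaf [2,6,5,3,2,6,5,3,2,6,5,3,2,6,5,3]) (BT.leaf [0,0])))) (BT.node (BT.node (BT.node (BT.leaf [6,1,6,1]) (BT.leaf [0,0])) (BT.node (BT.leaf [2,3,2,3,2,3,2,3,0,2,3]) (BT.leaf [0,0]))) (BT.node (BT.node (BT.leaf [2,1,0,2,1,0,2,1,0,4]) (BT.leaf [0,0])) (BT.node (BT.leaf [2,3,4,1,2,3,4,1,2,3,4,1,2,3,4,1,2,3,4,10,1,2,3,4,1,2,3,4,1]) (BT.leaf [0,0]))))))) (BT.node (BT.node (BT.node (BT.node (BT.node (BT.node (BT.leaf [2,2]) (BT.leaf [4,1,2,3,4,1,2,3,4,1,2,3,4,10,1,2,3,4,1,2,3,4,1,2,3,4,1,2,3])) (BT.node (BT.leaf [2,1,0,4,2,1,0,2,1,0]) (BT.leaf [0,0]))) (BT.node (BT.node (BT.leaf [5,2,5,2]) (BT.leaf [0,0])) (BT.node (BT.leaf [2,3,0,2,3,2,3,2,3,2,3]) (BT.leaf [0,0])))) (BT.node (BT.node (BT.node (BT.leaf [6,0,6,0]) (BT.leaf [0,0])) (BT.node (BT.leaf [3,2,3,2,3,2,3,2,0,3,2]) (BT.leaf [0,0]))) (BT.node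 (BT.node (BT.leaf [6,5,6,5,4]) (BT.leaf [0,0])) (BT.node (BT.leaf [10,1,2,3,4,1,2,3,4,1,2,3,4,1,2,3,4,1,2,3,4,1,2,3,4,1,2,3,4]) (BT.leaf [0,0]))))) (BT.node (BT.node (BT.node (BT.node (BT.leaf [2,0,2,0]) (BT.leaf [4,1,2,3,4,10,1,2,3,4,1,2,3,4,1,2,3,4,1,2,3,4,1,2,3,4,1,2,3])) (BT.node (BT.leaf [2,0,1,2,4,0,1,2,0,1]) (BT.leaf [0,0]))) (BT.node (BT.node (BT.leaf [6,3,6,3,6,3]) (BT.leaf [0,0])) (BT.node (BT.leaf [5,3,2,6,5,3,2,6,5,3,2,6,5,3,2,6]) (BT.leaf [0,0])))) (BT.node (BT.node (BT.node (BT.leaf [5,1,5,1]) (BT.leaf [0,0])) (BT.node (BT.leaf [2,3,2,3,2,3,2,3,2,3,0]) (BT.leaf [0,0]))) (BT.node (BT.node (BT.leaf [4,5,6,5,6]) (BT.leaf [0,0])) (BT.node (BT.leaf [4,1,2,3,4,1,2,3,4,1,2,3,4,1,2,3,4,1,2,3,4,10,1,2,3,4,1,2,3]) (BT.leaf [0,0])))))) (BT.node (BT.node (BT.node (BT.node (BT.node (BT.leaf [6,6])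 (BT.leaf [4,1,2,3,4,1,2,3,4,10,1,2,3,4,1,2,3,4,1,2,3,4,1,2,3,4,1,2,3])) (BT.node (BT.leaf [1,2,0,1,2,0,1,2,4,0]) (BT.leaf [0,0]))) (BT.node (BT.node (BT.leaf [4,3,4,3,4,3]) (BT.leaf [0,0])) (BT.node (BT.leaf [3,5,6,2,3,5,6,2,3,5,6,2,3,5,6,2]) (BT.leaf [0,0])))) (BT.node (BT.node (BT.node (BT.leaf [3,1,3,1]) (BT.leaf [0,0])) (BT.node (BT.leaf [3,2,3,2,0,3,2,3,2,3,2]) (BT.leaf [0,0]))) (BT.node (BT.node (BT.leaf [5,6,5,6,4]) (BT.leaf [0,0])) (BT.node (BT.leaf [4,1,2,3,4,1,2,3,4,1,2,3,4,1,2,3,4,1,2,3,4,1,2,3,4,10,1,2,3]) (BT.leaf [0,0]))))) (BT.node (BT.node (BT.node (BT.node (BT.leaf [4,0,4,0]) (BT.leaf [4,10,1,2,3,4,1,2,3,4,1,2,3,4,1,2,3,4,1,2,3,4,1,2,3,4,1,2,3])) (BT.node (BT.leaf [4,0,1,2,0,1,2,0,1,2]) (BT.leaf [0,0]))) (BT.node (BT.node (BT.leaf [6,4,6,4]) (BT.leaf [0,0])) (BT.node (BT.leaf [0,1,0,1,8])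 (BT.leaf [0,0])))) (BT.node (BT.node (BT.node (BT.leaf [3,2,3,2,3,2,3,2,3,2,3,2,3,2,3,2,3,2,3,2]) (BT.leaf [0,0])) (BT.node (BT.leaf [2,3,2,3,2,3,0,2,3,2,3]) (BT.leaf [0,0]))) (BT.node (BT.node (BT.leaf [0,2,1,0,2,1,0,4,2,1]) (BT.leaf [0,0])) (BT.node (BT.leaf [4,1,2,3,4,1,2,3,4,1,2,3,4,1,2,3,4,10,1,2,3,4,1,2,3,4,1,2,3]) (BT.leaf [0,0])))))))) (BT.node (BT.node (BT.node (BT.node (BT.node (BT.node (BT.node (BT.leaf [1,1]) (BT.leaf [3,4,1,2,3,4,1,2,3,4,1,2,3,4,10,1,2,3,4,1,2,3,4,1,2,3,4,1,2])) (BT.node (BT.leaf [0,2,1,0,4,2,1,0,2,1]) (BT.leaf [0,0]))) (BT.node (BT.node (BT.leaf [2,5,2,5]) (BT.leaf [0,0])) (BT.node (BT.leaf [3,2,3,0,2,3,2,3,2,3,2]) (BT.leaf [0,0])))) (BT.node (BT.node (BT.node (BT.leaf [0,6,0,6]) (BT.leaf [0,0])) (BT.node (BT.leaf [2,3,2,3,2,3,2,3,2,0,3]) (BT.leaf [0,0]))) (BT.node (BT.node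 (BT.leaf [4,6,5,6,5]) (BT.leaf [0,0])) (BT.node (BT.leaf [1,8,0,1,0]) (BT.leaf [0,0]))))) (BT.node (BT.node (BT.node (BT.node (BT.leaf [0,2,0,2]) (BT.leaf [3,4,1,2,3,4,10,1,2,3,4,1,2,3,4,1,2,3,4,1,2,3,4,1,2,3,4,1,2])) (BT.node (BT.leaf [1,2,0,1,2,4,0,1,2,0]) (BT.leaf [0,0]))) (BT.node (BT.node (BT.leaf [3,6,3,6,3,6]) (BT.leaf [0,0])) (BT.node (BT.leaf [6,5,3,2,6,5,3,2,6,5,3,2,6,5,3,2]) (BT.leaf [0,0])))) (BT.node (BT.node (BT.node (BT.leaf [1,5,1,5]) (BT.leaf [0,0])) (BT.node (BT.leaf [2,0,3,2,3,2,3,2,3,2,3]) (BT.leaf [0,0]))) (BT.node (BT.node (BT.leaf [6,4,5,6,5]) (BT.leaf [0,0])) (BT.node (BT.leaf [3,4,1,2,3,4,1,2,3,4,1,2,3,4,1,2,3,4,1,2,3,4,10,1,2,3,4,1,2]) (BT.leaf [0,0])))))) (BT.node (BT.node (BT.node (BT.node (BT.node (BT.leaf [5,5]) (BT.leaf [3,4,1,2,3,4,1,2,3,4,10,1,2,3,4,1,2,3,4,1,2,3,4,1,2,3,4,1,2]))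 (BT.node (BT.leaf [0,1,2,0,1,2,0,1,2,4]) (BT.leaf [0,0]))) (BT.node (BT.node (BT.leaf [3,4,3,4,3,4]) (BT.leaf [0,0])) (BT.node (BT.leaf [2,3,5,6,2,3,5,6,2,3,5,6,2,3,5,6]) (BT.leaf [0,0])))) (BT.node (BT.node (BT.node (BT.leaf [1,3,1,3]) (BT.leaf [0,0])) (BT.node (BT.leaf [2,3,2,3,2,0,3,2,3,2,3]) (BT.leaf [0,0]))) (BT.node (BT.node (BT.leaf [5,4,6,5,6]) (BT.leaf [0,0])) (BT.node (BT.leaf [3,4,1,2,3,4,1,2,3,4,1,2,3,4,1,2,3,4,1,2,3,4,1,2,3,4,10,1,2]) (BT.leaf [0,0]))))) (BT.node (BT.node (BT.node (BT.node (BT.leaf [0,4,0,4]) (BT.leaf [3,4,10,1,2,3,4,1,2,3,4,1,2,3,4,1,2,3,4,1,2,3,4,1,2,3,4,1,2])) (BT.node (BT.leaf [2,4,0,1,2,0,1,2,0,1]) (BT.leaf [0,0]))) (BT.node (BT.node (BT.leaf [4,6,4,6]) (BT.leaf [0,0])) (BT.node (BT.leaf [8,0,1,0,1]) (BT.leaf [0,0])))) (BT.node (BT.node (BT.node (BT.leaf [2,3,2,3,2,3,2,3,2,3,2,3,2,3,2,3,2,3,2,3])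 (BT.leaf [0,0])) (BT.node (BT.leaf [3,2,3,2,3,2,3,0,2,3,2]) (BT.leaf [0,0]))) (BT.node (BT.node (BT.leaf [1,0,2,1,0,2,1,0,4,2]) (BT.leaf [0,0])) (BT.node (BT.leaf [3,4,1,2,3,4,1,2,3,4,1,2,3,4,1,2,3,4,10,1,2,3,4,1,2,3,4,1,2]) (BT.leaf [0,0]))))))) (BT.node (BT.node (BT.node (BT.node (BT.node (BT.node (BT.leaf [3,3]) (BT.leaf [1,2,3,4,1,2,3,4,1,2,3,4,10,1,2,3,4,1,2,3,4,1,2,3,4,1,2,3,4])) (BT.node (BT.leaf [1,0,4,2,1,0,2,1,0,2]) (BT.leaf [0,0]))) (BT.node (BT.node (BT.leaf [2,6,2,6]) (BT.leaf [0,0])) (BT.node (BT.leaf [3,0,2,3,2,3,2,3,2,3,2]) (BT.leaf [0,0])))) (BT.node (BT.node (BT.node (BT.leaf [1,2,1,2,1,2]) (BT.leaf [0,0])) (BT.node (BT.leaf [2,3,2,3,2,3,2,0,3,2,3]) (BT.leaf [0,0]))) (BT.node (BT.node (BT.leaf [5,6,5,4,6]) (BT.leaf [0,0])) (BT.node (BT.leaf [1,2,3,4,1,2,3,4,1,2,3,4,1,2,3,4,1,2,3,4,1,2,3,4,1,2,3,4,10])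 (BT.leaf [0,0]))))) (BT.node (BT.node (BT.node (BT.node (BT.leaf [0,3,0,3]) (BT.leaf [1,2,3,4,10,1,2,3,4,1,2,3,4,1,2,3,4,1,2,3,4,1,2,3,4,1,2,3,4])) (BT.node (BT.leaf [0,1,2,4,0,1,2,0,1,2]) (BT.leaf [0,0]))) (BT.node (BT.node (BT.leaf [4,5,4,5]) (BT.leaf [0,0])) (BT.node (BT.leaf [3,2,6,5,3,2,6,5,3,2,6,5,3,2,6,5]) (BT.leaf [0,0])))) (BT.node (BT.node (BT.node (BT.leaf [1,6,1,6]) (BT.leaf [0,0])) (BT.node (BT.leaf [3,2,3,2,3,2,3,2,3,0,2]) (BT.leaf [0,0]))) (BT.node (BT.node (BT.leaf [4,2,1,0,2,1,0,2,1,0]) (BT.leaf [0,0])) (BT.node (BT.leaf [1,2,3,4,1,2,3,4,1,2,3,4,1,2,3,4,1,2,3,4,10,1,2,3,4,1,2,3,4]) (BT.leaf [0,0])))))) (BT.node (BT.node (BT.node (BT.node (BT.node (BT.leaf [0,1,0,1,0,1,0,1]) (BT.leaf [1,2,3,4,1,2,3,4,10,1,2,3,4,1,2,3,4,1,2,3,4,1,2,3,4,1,2,3,4])) (BT.node (BT.leaf [2,0,1,2,0,1,2,4,0,1])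 (BT.leaf [0,0]))) (BT.node (BT.node (BT.leaf [3,5,3,5,3,5]) (BT.leaf [0,0])) (BT.node (BT.leaf [5,6,2,3,5,6,2,3,5,6,2,3,5,6,2,3]) (BT.leaf [0,0])))) (BT.node (BT.node (BT.node (BT.leaf [1,4,1,4]) (BT.leaf [0,0])) (BT.node (BT.leaf [2,3,2,0,3,2,3,2,3,2,3]) (BT.leaf [0,0]))) (BT.node (BT.node (BT.leaf [6,5,6,4,5]) (BT.leaf [0,0])) (BT.node (BT.leaf [1,2,3,4,1,2,3,4,1,2,3,4,1,2,3,4,1,2,3,4,1,2,3,4,10,1,2,3,4]) (BT.leaf [0,0]))))) (BT.node (BT.node (BT.node (BT.node (BT.leaf [0,5,0,5]) (BT.leaf [0,0])) (BT.node (BT.leaf [0,3,2,3,2,3,2,3,2,3,2]) (BT.leaf [0,0]))) (BT.node (BT.node (BT.leaf [5,6,5,6,5,6,5,6]) (BT.leaf [0,0])) (BT.node (BT.leaf [1,0,1,8,0]) (BT.leaf [0,0])))) (BT.node (BT.node (BT.node (BT.leaf [2,4,2,4]) (BT.leaf [0,0])) (BT.node (BT.leaf [3,2,3,2,3,0,2,3,2,3,2]) (BT.leaf [0,0]))) (BT.node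 (BT.node (BT.leaf [2,1,0,2,1,0,4,2,1,0]) (BT.leaf [0,0])) (BT.node (BT.leaf [1,2,3,4,1,2,3,4,1,2,3,4,1,2,3,4,10,1,2,3,4,1,2,3,4,1,2,3,4]) (BT.leaf [0,0])))))))))

def cell : ℕ → ℕ → ℕ := mkCell (rdArr cellDT 40 11 1099511627775 2047) cN ncol 1099511627775
def eps : ℕ → ℕ := mkEps (rdArr epsDT 40 11 1099511627775 2047) cN 1099511627775
def stp : ℕ → ℕ := rdArr stpDT 48 11 281474976710655 2047
def defs : ℕ → ℕ := rdArr defDT 21 12 2097151 4095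
def T (i y : ℕ) : ℕ := rdArr tabDT 12 13 4095 8191 (Nat.add (Nat.mul i ncol) y)
def live : ℕ → ℕ := rdArr liveDT 13 12 8191 4095

theorem c_relW : relW.all (fun w => relL.any (fun r => w == fw col r)) = true := by decide +kernel
theorem c_ps : psW.all (fun w => (List.range 2).any (fun j => w == (ncol + 2 * j + 1) :: fw col (hwf j))) = true := by decide +kernel
theorem c_cov : relL.all (fun r => chkW.any (fun w => (List.range w.length).any (fun s => wordOf col r.toWord == w.rotate s))) = true := by decide +kernel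
theorem c_lt : chkW.all (fun w => w.all (fun y => Nat.blt y ncol)) = true := by decide +kernel
theorem c_pairs : (List.range ncol).all (fun y => chkW.contains [y, ybar y]) = true := by decide +kernel
theorem c_S : Sl.all (fun s => Nat.beq (walkR T (wordOf col s.toWord) 0) 0) = true := by decide +kernel
theorem c_hlet : hlet.all (fun y => Nat.blt y ncol && (letter y).2 && Sl.contains (FreeGroup.of (letter y).1)) = true := by decide +kernel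
theorem c_sw1 : Sl.all (fun s => SW.contains (wordOf col s.toWord) && SW.contains (wordOf col (s⁻¹).toWord)) = true := by decide +kernel
theorem c_sw2 : SW.all (fun w => Sl.any (fun s => w == wordOf col s.toWord || w == wordOf col (s⁻¹).toWord)) = true := by decide +kernel
theorem c_letter : (List.range ncol).all (fun y => Nat.beq (col (letter y).1 (letter y).2) y) = true := by decide +kernel

theorem c_leaf : BT.all (leafOK baseW) wordT = true := by decide +kernel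
abbrev F_step : ℕ → Bool := guard cM (stepOK cell eps stp defs wordT.get ncol hlet)
abbrev F_cell : ℕ → Bool := guard cN (fun g => (List.range ncol).all (fun y => consCell cell stp cM g y))
abbrev F_eps : ℕ → Bool := guard cN (consEps eps stp cM)
abbrev F_fin : ℕ → Bool := guard cn (finOK cell eps live T cM cn ncol)
abbrev F_rel : ℕ → Bool := guard cn (relOK T chkW)
abbrev F_desc : ℕ → Bool := guard cn (descOK T ncol SW)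
abbrev F_orb0 : ℕ → Bool := guard cn (orbOK T SW 1 1361)
abbrev F_orb1 : ℕ → Bool := guard cn (orbOK T SW 1361 1786)
abbrev F_orb2 : ℕ → Bool := guard cn (orbOK T SW 1786 1922)
abbrev F_orb3 : ℕ → Bool := guard cn (orbOK T SW 1922 2058)

end

end Cfsg.Agent.H07.CD.He2058
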