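import Mathlib
import Cfsg.Agent.Lib.H07.CD.HeUM
set_option autoImplicit false
set_option maxRecDepth 1000000
namespace Cfsg.Agent.H07.CD.HeU
open Cfsg.Agent.H07.Coset Cfsg.Spor
noncomputable section
theorem c_step_18_l : allR F_step 13 (18 * 2 ^ 14) = true := by decide +kernel
theorem c_step_18_r : allR F_step 13 (18 * 2 ^ 14 + 2 ^ 13) = true := by decide +kernel
theorem c_step_18 : allR F_step 14 (18 * 2 ^ 14) = true := allR_of_parts F_step 13 _ c_step_18_l c_step_18_r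
theorem c_step_19_l : allR F_step 13 (19 * 2 ^ 14) = true := by decide +kernel
theorem c_step_19_r : allR F_step 13 (19 * 2 ^ 14 + 2 ^ 13) = true := by decide +kernel
theorem c_step_19 : allR F_step 14 (19 * 2 ^ 14) = true := allR_of_parts F_step 13 _ c_step_19_l c_step_19_r
theorem c_step_20_l : allR F_step 13 (20 * 2 ^ 14) = true := by decide +kernel
theorem c_step_20_r : allR F_step 13 (20 * 2 ^ 14 + 2 ^ 13) = true := by decide +kernel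
theorem c_step_20 : allR F_step 14 (20 * 2 ^ 14) = true := allR_of_parts F_step 13 _ c_step_20_l c_step_20_r
theorem c_step_21_l : allR F_step 13 (21 * 2 ^ 14) = true := by decide +kernel
theorem c_step_21_r : allR F_step 13 (21 * 2 ^ 14 + 2 ^ 13) = true := by decide +kernel
theorem c_step_21 : allR F_step 14 (21 * 2 ^ 14) = true := allR_of_parts F_step 13 _ c_step_21_l c_step_21_r
theorem c_cell_0_l_l_l_l : allR F_cell 12 (0 * 2 ^ 16) = true := by decide +kernel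
theorem c_cell_0_l_l_l_r : allR F_cell 12 (0 * 2 ^ 16 + 2 ^ 12) = true := by decide +kernel
theorem c_cell_0_l_l_l : allR F_cell 13 (0 * 2 ^ 16) = true := allR_of_parts F_cell 12 _ c_cell_0_l_l_l_l c_cell_0_l_l_l_r
theorem c_cell_0_l_l_r_l : allR F_cell 12 (0 * 2 ^ 16 + 2 ^ 13) = true := by decide +kernel
theorem c_cell_0_l_l_r_r : allR F_cell 12 (0 * 2 ^ 16 + 2 ^ 13 + 2 ^ 12) = true := by decide +kernel
theorem c_cell_0_l_l_r : allR F_cell 13 (0 * 2 ^ 16 + 2 ^ 13) = true := allR_of_parts F_cell 12 _ c_cell_0_l_l_r_l c_cell_0_l_l_r_r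
theorem c_cell_0_l_l : allR F_cell 14 (0 * 2 ^ 16) = true := allR_of_parts F_cell 13 _ c_cell_0_l_l_l c_cell_0_l_l_r
theorem c_cell_0_l_r_l_l : allR F_cell 12 (0 * 2 ^ 16 + 2 ^ 14) = true := by decide +kernel
theorem c_cell_0_l_r_l_r : allR F_cell 12 (0 * 2 ^ 16 + 2 ^ 14 + 2 ^ 12) = true := by decide +kernel
theorem c_cell_0_l_r_l : allR F_cell 13 (0 * 2 ^ 16 + 2 ^ 14) = true := allR_of_parts F_cell 12 _ c_cell_0_l_r_l_l c_cell_0_l_r_l_r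
theorem c_cell_0_l_r_r_l : allR F_cell 12 (0 * 2 ^ 16 + 2 ^ 14 + 2 ^ 13) = true := by decide +kernel
theorem c_cell_0_l_r_r_r : allR F_cell 12 (0 * 2 ^ 16 + 2 ^ 14 + 2 ^ 13 + 2 ^ 12) = true := by decide +kernel
theorem c_cell_0_l_r_r : allR F_cell 13 (0 * 2 ^ 16 + 2 ^ 14 + 2 ^ 13) = true := allR_of_parts F_cell 12 _ c_cell_0_l_r_r_l c_cell_0_l_r_r_r
theorem c_cell_0_l_r : allR F_cell 14 (0 * 2 ^ 16 + 2 ^ 14) = true := allR_of_parts F_cell 13 _ c_cell_0_l_r_l c_cell_0_l_r_r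
theorem c_cell_0_l : allR F_cell 15 (0 * 2 ^ 16) = true := allR_of_parts F_cell 14 _ c_cell_0_l_l c_cell_0_l_r
theorem c_cell_0_r_l_l_l : allR F_cell 12 (0 * 2 ^ 16 + 2 ^ 15) = true := by decide +kernel
theorem c_cell_0_r_l_l_r : allR F_cell 12 (0 * 2 ^ 16 + 2 ^ 15 + 2 ^ 12) = true := by decide +kernel
theorem c_cell_0_r_l_l : allR F_cell 13 (0 * 2 ^ 16 + 2 ^ 15) = true := allR_of_parts F_cell 12 _ c_cell_0_r_l_l_l c_cell_0_r_l_l_r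
theorem c_cell_0_r_l_r_l : allR F_cell 12 (0 * 2 ^ 16 + 2 ^ 15 + 2 ^ 13) = true := by decide +kernel
theorem c_cell_0_r_l_r_r : allR F_cell 12 (0 * 2 ^ 16 + 2 ^ 15 + 2 ^ 13 + 2 ^ 12) = true := by decide +kernel
theorem c_cell_0_r_l_r : allR F_cell 13 (0 * 2 ^ 16 + 2 ^ 15 + 2 ^ 13) = true := allR_of_parts F_cell 12 _ c_cell_0_r_l_r_l c_cell_0_r_l_r_r
theorem c_cell_0_r_l : allR F_cell 14 (0 * 2 ^ 16 + 2 ^ 15) = true := allR_of_parts F_cell 13 _ c_cell_0_r_l_l c_cell_0_r_l_r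
theorem c_cell_0_r_r_l_l : allR F_cell 12 (0 * 2 ^ 16 + 2 ^ 15 + 2 ^ 14) = true := by decide +kernel
theorem c_cell_0_r_r_l_r : allR F_cell 12 (0 * 2 ^ 16 + 2 ^ 15 + 2 ^ 14 + 2 ^ 12) = true := by decide +kernel
theorem c_cell_0_r_r_l : allR F_cell 13 (0 * 2 ^ 16 + 2 ^ 15 + 2 ^ 14) = true := allR_of_parts F_cell 12 _ c_cell_0_r_r_l_l c_cell_0_r_r_l_r
theorem c_cell_0_r_r_r_l : allR F_cell 12 (0 * 2 ^ 16 + 2 ^ 15 + 2 ^ 14 + 2 ^ 13) = true := by decide +kernel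
theorem c_cell_0_r_r_r_r : allR F_cell 12 (0 * 2 ^ 16 + 2 ^ 15 + 2 ^ 14 + 2 ^ 13 + 2 ^ 12) = true := by decide +kernel
theorem c_cell_0_r_r_r : allR F_cell 13 (0 * 2 ^ 16 + 2 ^ 15 + 2 ^ 14 + 2 ^ 13) = true := allR_of_parts F_cell 12 _ c_cell_0_r_r_r_l c_cell_0_r_r_r_r
theorem c_cell_0_r_r : allR F_cell 14 (0 * 2 ^ 16 + 2 ^ 15 + 2 ^ 14) = true := allR_of_parts F_cell 13 _ c_cell_0_r_r_l c_cell_0_r_r_r
theorem c_cell_0_r : allR F_cell 15 (0 * 2 ^ 16 + 2 ^ 15) = true := allR_of_parts F_cell 14 _ c_cell_0_r_l c_cell_0_r_r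
theorem c_cell_0 : allR F_cell 16 (0 * 2 ^ 16) = true := allR_of_parts F_cell 15 _ c_cell_0_l c_cell_0_r
theorem c_eps_0_l_l_l_l : allR F_eps 12 (0 * 2 ^ 16) = true := by decide +kernel
theorem c_eps_0_l_l_l_r : allR F_eps 12 (0 * 2 ^ 16 + 2 ^ 12) = true := by decide +kernel
theorem c_eps_0_l_l_l : allR F_eps 13 (0 * 2 ^ 16) = true := allR_of_parts F_eps 12 _ c_eps_0_l_l_l_l c_eps_0_l_l_l_r
theorem c_eps_0_l_l_r_l : allR F_eps 12 (0 * 2 ^ 16 + 2 ^ 13) = true := by decide +kernel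
theorem c_eps_0_l_l_r_r : allR F_eps 12 (0 * 2 ^ 16 + 2 ^ 13 + 2 ^ 12) = true := by decide +kernel
theorem c_eps_0_l_l_r : allR F_eps 13 (0 * 2 ^ 16 + 2 ^ 13) = true := allR_of_parts F_eps 12 _ c_eps_0_l_l_r_l c_eps_0_l_l_r_r
theorem c_eps_0_l_l : allR F_eps 14 (0 * 2 ^ 16) = true := allR_of_parts F_eps 13 _ c_eps_0_l_l_l c_eps_0_l_l_r
theorem c_eps_0_l_r_l_l : allR F_eps 12 (0 * 2 ^ 16 + 2 ^ 14) = true := by decide +kernel
theorem c_eps_0_l_r_l_r : allR F_eps 12 (0 * 2 ^ 16 + 2 ^ 14 + 2 ^ 12) = true := by decide +kernel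
theorem c_eps_0_l_r_l : allR F_eps 13 (0 * 2 ^ 16 + 2 ^ 14) = true := allR_of_parts F_eps 12 _ c_eps_0_l_r_l_l c_eps_0_l_r_l_r
theorem c_eps_0_l_r_r_l : allR F_eps 12 (0 * 2 ^ 16 + 2 ^ 14 + 2 ^ 13) = true := by decide +kernel
theorem c_eps_0_l_r_r_r : allR F_eps 12 (0 * 2 ^ 16 + 2 ^ 14 + 2 ^ 13 + 2 ^ 12) = true := by decide +kernel
theorem c_eps_0_l_r_r : allR F_eps 13 (0 * 2 ^ 16 + 2 ^ 14 + 2 ^ 13) = true := allR_of_parts F_eps 12 _ c_eps_0_l_r_r_l c_eps_0_l_r_r_r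
theorem c_eps_0_l_r : allR F_eps 14 (0 * 2 ^ 16 + 2 ^ 14) = true := allR_of_parts F_eps 13 _ c_eps_0_l_r_l c_eps_0_l_r_r
theorem c_eps_0_l : allR F_eps 15 (0 * 2 ^ 16) = true := allR_of_parts F_eps 14 _ c_eps_0_l_l c_eps_0_l_r
theorem c_eps_0_r_l_l_l : allR F_eps 12 (0 * 2 ^ 16 + 2 ^ 15) = true := by decide +kernel
theorem c_eps_0_r_l_l_r : allR F_eps 12 (0 * 2 ^ 16 + 2 ^ 15 + 2 ^ 12) = true := by decide +kernel
theorem c_eps_0_r_l_l : allR F_eps 13 (0 * 2 ^ 16 + 2 ^ 15) = true := allR_of_parts F_eps 12 _ c_eps_0_r_l_l_l c_eps_0_r_l_l_r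
theorem c_eps_0_r_l_r_l : allR F_eps 12 (0 * 2 ^ 16 + 2 ^ 15 + 2 ^ 13) = true := by decide +kernel
theorem c_eps_0_r_l_r_r : allR F_eps 12 (0 * 2 ^ 16 + 2 ^ 15 + 2 ^ 13 + 2 ^ 12) = true := by decide +kernel
theorem c_eps_0_r_l_r : allR F_eps 13 (0 * 2 ^ 16 + 2 ^ 15 + 2 ^ 13) = true := allR_of_parts F_eps 12 _ c_eps_0_r_l_r_l c_eps_0_r_l_r_r
theorem c_eps_0_r_l : allR F_eps 14 (0 * 2 ^ 16 + 2 ^ 15) = true := allR_of_parts F_eps 13 _ c_eps_0_r_l_l c_eps_0_r_l_r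
theorem c_eps_0_r_r_l_l : allR F_eps 12 (0 * 2 ^ 16 + 2 ^ 15 + 2 ^ 14) = true := by decide +kernel
theorem c_eps_0_r_r_l_r : allR F_eps 12 (0 * 2 ^ 16 + 2 ^ 15 + 2 ^ 14 + 2 ^ 12) = true := by decide +kernel
theorem c_eps_0_r_r_l : allR F_eps 13 (0 * 2 ^ 16 + 2 ^ 15 + 2 ^ 14) = true := allR_of_parts F_eps 12 _ c_eps_0_r_r_l_l c_eps_0_r_r_l_r
theorem c_eps_0_r_r_r_l : allR F_eps 12 (0 * 2 ^ 16 + 2 ^ 15 + 2 ^ 14 + 2 ^ 13) = true := by decide +kernel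
theorem c_eps_0_r_r_r_r : allR F_eps 12 (0 * 2 ^ 16 + 2 ^ 15 + 2 ^ 14 + 2 ^ 13 + 2 ^ 12) = true := by decide +kernel
theorem c_eps_0_r_r_r : allR F_eps 13 (0 * 2 ^ 16 + 2 ^ 15 + 2 ^ 14 + 2 ^ 13) = true := allR_of_parts F_eps 12 _ c_eps_0_r_r_r_l c_eps_0_r_r_r_r
theorem c_eps_0_r_r : allR F_eps 14 (0 * 2 ^ 16 + 2 ^ 15 + 2 ^ 14) = true := allR_of_parts F_eps 13 _ c_eps_0_r_r_l c_eps_0_r_r_r
theorem c_eps_0_r : allR F_eps 15 (0 * 2 ^ 16 + 2 ^ 15) = true := allR_of_parts F_eps 14 _ c_eps_0_r_l c_eps_0_r_r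
theorem c_eps_0 : allR F_eps 16 (0 * 2 ^ 16) = true := allR_of_parts F_eps 15 _ c_eps_0_l c_eps_0_r
theorem c_fin_0_l : allR F_fin 12 (0 * 2 ^ 13) = true := by decide +kernel
theorem c_fin_0_r : allR F_fin 12 (0 * 2 ^ 13 + 2 ^ 12) = true := by decide +kernel
theorem c_fin_0 : allR F_fin 13 (0 * 2 ^ 13) = true := allR_of_parts F_fin 12 _ c_fin_0_l c_fin_0_r
theorem c_fin_1_l : allR F_fin 12 (1 * 2 ^ 13) = true := by decide +kernel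
theorem c_fin_1_r : allR F_fin 12 (1 * 2 ^ 13 + 2 ^ 12) = true := by decide +kernel
theorem c_fin_1 : allR F_fin 13 (1 * 2 ^ 13) = true := allR_of_parts F_fin 12 _ c_fin_1_l c_fin_1_r

end

end Cfsg.Agent.H07.CD.HeU
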