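import Mathlib
import Cfsg.Agent.S0457
import Cfsg.Agent.Lib.H07.CD.J1pU
import Cfsg.Agent.Lib.H07.CycHub
set_option autoImplicit false
set_option maxRecDepth 1000000
namespace Cfsg.Agent.H07.CD.J1pFinal
open Cfsg.Agent.H07.SimpleT Cfsg.Agent.H17.J1 Cfsg.Agent.S2065 Cfsg.Agent.S0457 Cfsg.Spor
noncomputable section

abbrev GG : Type := PresentedGroup (coxRelators J1p.edges ∪ {r | r ∈ J1p.extra})

theorem hub : Finite GG ∧ Nat.card GG ≤ 175560 :=
  hub_of_cyclic (J1p.a * J1p.b) 7 25080 (by norm_num) (by right; simp [J1p.extra]) Cfsg.Agent.H07.CD.J1pU.hup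

def wA : List Bool := [true,false,false,false,false,true,false]
def wB : List Bool := [false,true,false,true,true,true,false,false,true]
def mA : G := gWord gX gY wA
def mB : G := gWord gX gY wB
def cA : ℕ := wordD cX cY wA
def cB : ℕ := wordD cX cY wB

theorem phi_A : phi mA = toM cA := phi_gWord _ _ _ _ phi_gX phi_gY _
theorem phi_B : phi mB = toM cB := phi_gWord _ _ _ _ phi_gX phi_gY _

theorem A2 : mulD cA cA = cI := by decide +kernel
theorem B3 : mulD (mulD cB cB) cB = cI := by decide +kernel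

theorem Ainv : mA⁻¹ = mA := by
  apply inv_eq_of_mul_eq_one_left
  apply phi_inj
  rw [map_mul, phi_A, ← toM_mulD, A2, toM_cI, map_one]

theorem Binv : mB⁻¹ = mB * mB := by
  apply inv_eq_of_mul_eq_one_left
  apply phi_inj
  rw [map_mul, map_mul, phi_B, ← toM_mulD, ← toM_mulD, B3, toM_cI, map_one]

def f : J1p.Gen → G
  | .a => mA
  | .b => mB

def code : J1p.Gen → Bool → ℕ
  | .a, _ => cA
  | .b, true => cB
  | .b, false => mulD cB cB

theorem phi_code (x : J1p.Gen) (c : Bool) : phi (cond c (f x) (f x)⁻¹) = toM (code x c) := by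
  cases x <;> cases c
  · show phi mA⁻¹ = toM cA
    rw [Ainv, phi_A]
  · exact phi_A
  · show phi mB⁻¹ = toM (mulD cB cB)
    rw [Binv, map_mul, phi_B, toM_mulD]
  · exact phi_B

def evalD : List (J1p.Gen × Bool) → ℕ
  | [] => cI
  | p :: l => mulD (code p.1 p.2) (evalD l)

theorem phi_prod (l : List (J1p.Gen × Bool)) :
    phi (l.map (fun p => cond p.2 (f p.1) (f p.1)⁻¹)).prod = toM (evalD l) := by
  induction l with
  | nil => simp [evalD, toM_cI]
  | cons p l ih =>
    rw [List.map_cons, List.prod_cons, map_mul, ih, evalD, toM_mulD, phi_code]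

theorem phi_lift (r : FreeGroup J1p.Gen) : phi (FreeGroup.lift f r) = toM (evalD r.toWord) := by
  conv_lhs => rw [← FreeGroup.mk_toWord (x := r)]
  rw [FreeGroup.lift_mk, phi_prod]

theorem c_rel : Cfsg.Agent.H07.CD.J1pU.relL.all (fun r => Nat.beq (evalD r.toWord) cI) = true := by decide +kernel

theorem hf : ∀ r ∈ (coxRelators J1p.edges ∪ {r | r ∈ J1p.extra}), FreeGroup.lift f r = 1 := by
  intro r hr
  have h1 : r ∈ Cfsg.Agent.H07.CD.J1pU.relL := (Cfsg.Agent.H07.Coset.mem_relList _ _ r).mpr hr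
  have h2 := List.all_eq_true.mp c_rel r h1
  apply phi_inj
  rw [map_one, phi_lift, Nat.eq_of_beq_eq_true h2, toM_cI]

def π : GG →* G := PresentedGroup.toGroup hf

def wordX : List (J1p.Gen × Bool) := [(J1p.Gen.a, true), (J1p.Gen.b, true), (J1p.Gen.b, true), (J1p.Gen.a, true), (J1p.Gen.b, true), (J1p.Gen.a, true), (J1p.Gen.b, true), (J1p.Gen.a, true), (J1p.Gen.b, true), (J1p.Gen.b, true), (J1p.Gen.a, true), (J1p.Gen.b, true), (J1p.Gen.a, true), (J1p.Gen.b, true), (J1p.Gen.a, true), (J1p.Gen.b, true), (J1p.Gen.b, true), (J1p.Gen.a, true), (J1p.Gen.b, true), (J1p.Gen.a, true), (J1p.Gen.b, true), (J1p.Gen.b, true), (J1p.Gen.a, true), (J1p.Gen.b, true), (J1p.Gen.a, true), (J1p.Gen.b, true), (J1p.Gen.b, true), (J1p.Gen.a, true), (J1p.Gen.b, true), (J1p.Gen.a, true), (J1p.Gen.b, true), (J1p.Gen.a, true), (J1p.Gen.b, true), (J1p.Gen.b, true)]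
def wordY : List (J1p.Gen × Bool) := [(J1p.Gen.b, true), (J1p.Gen.b, true), (J1p.Gen.a, true), (J1p.Gen.b, true), (J1p.Gen.a, true), (J1p.Gen.b, true), (J1p.Gen.a, true), (J1p.Gen.b, true), (J1p.Gen.b, true), (J1p.Gen.a, true), (J1p.Gen.b, true), (J1p.Gen.a, true), (J1p.Gen.b, true), (J1p.Gen.b, true), (J1p.Gen.a, true), (J1p.Gen.b, true), (J1p.Gen.a, true), (J1p.Gen.b, true), (J1p.Gen.b, true), (J1p.Gen.a, true), (J1p.Gen.b, true), (J1p.Gen.a, true), (J1p.Gen.b, true), (J1p.Gen.a, true), (J1p.Gen.b, true), (J1p.Gen.b, true), (J1p.Gen.a, true), (J1p.Gen.b, true), (J1p.Gen.b, true), (J1p.Gen.a, true), (J1p.Gen.b, true), (J1p.Gen.a, true), (J1p.Gen.b, true), (J1p.Gen.a, true), (J1p.Gen.b, true), (J1p.Gen.b, true), (J1p.Gen.a, true), (J1p.Gen.b, true), (J1p.Gen.a, true), (J1p.Gen.b, true), (J1p.Gen.a, true), (J1p.Gen.b, true), (J1p.Gen.b, true), (J1p.Gen.a, true)]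

theorem c_X : evalD wordX = mulD cI cX := by decide +kernel
theorem c_Y : evalD wordY = mulD cI cY := by decide +kernel

theorem surj : Function.Surjective π := by
  have hX : gX ∈ π.range := by
    refine ⟨PresentedGroup.mk _ (FreeGroup.mk wordX), ?_⟩
    apply phi_inj
    show phi (FreeGroup.lift f (FreeGroup.mk wordX)) = phi gX
    rw [FreeGroup.lift_mk, phi_prod, c_X, toM_mulD, toM_cI, one_mul, phi_gX]
  have hY : gY ∈ π.range := by
    refine ⟨PresentedGroup.mk _ (FreeGroup.mk wordY), ?_⟩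
    apply phi_inj
    show phi (FreeGroup.lift f (FreeGroup.mk wordY)) = phi gY
    rw [FreeGroup.lift_mk, phi_prod, c_Y, toM_mulD, toM_cI, one_mul, phi_gY]
  exact MonoidHom.range_eq_top.mp (top_of _ hX hY)

theorem result : IsSimpleGroup GG ∧ Nat.card GG = 175560 := by
  haveI : Finite GG := hub.1
  have hb : Function.Bijective π := surj.bijective_of_nat_card_le (by rw [card_G]; exact hub.2)
  let e : GG ≃* G := MulEquiv.ofBijective π hb
  haveI := simple_G
  refine ⟨e.isSimpleGroup, ?_⟩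
  rw [Nat.card_congr e.toEquiv, card_G]

end

end Cfsg.Agent.H07.CD.J1pFinal
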