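import Cfsg.Prelude.Def_SporCoxeter
set_option autoImplicit false

/-!
A presentation of the second Janko group, on two generators of a subgroup of index 100 and one more.
-/

namespace Cfsg
namespace Spor

namespace J2p

/-- The generators. -/
inductive Gen
  | u
  | v
  | a
  deriving DecidableEq

/-- the generator u as a word -/ abbrev u : FreeGroup Gen := FreeGroup.of Gen.u
/-- the generator v as a word -/ abbrev v : FreeGroup Gen := FreeGroup.of Gen.v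
/-- the generator a as a word -/ abbrev a : FreeGroup Gen := FreeGroup.of Gen.a

/-- The node a is an involution. -/
def edges : List (Gen × ℕ × Gen) :=
  [(.a, 2, .a)]

/-- The further relators. -/
def extra : List (FreeGroup Gen) := [
  u * u,
  v * v * v * v * v * v,
  v⁻¹ * u * v⁻¹ * u * v⁻¹ * u * v⁻¹ * u * v⁻¹ * u * v⁻¹ * u * v⁻¹ * u,
  v⁻¹ * v⁻¹ * u * v⁻¹ * v⁻¹ * u * v⁻¹ * v⁻¹ * u * v * v * u * v * v * u * v * v * u,
  v⁻¹ * v⁻¹ * u * v * u * v⁻¹ * v⁻¹ * u * v * u * v⁻¹ * v⁻¹ * u * v * u * v⁻¹ * u * v⁻¹ * u * v * u,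
  v⁻¹ * v⁻¹ * a * v * v * a,
  v⁻¹ * a * v⁻¹ * a * v⁻¹ * a,
  v⁻¹ * v⁻¹ * v⁻¹ * a * v⁻¹ * u * v⁻¹ * u * v⁻¹ * v⁻¹ * u * v * a * v * u * v⁻¹ * u * v⁻¹ * v⁻¹ * u
]

end J2p

end Spor
end Cfsg
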