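import Mathlib
import Cfsg.Agent.Lib.H07.CD.J2pL1D
set_option autoImplicit false
set_option maxRecDepth 1000000
namespace Cfsg.Agent.H07.CD.J2pL1
open Cfsg.Agent.H07.Coset Cfsg.Spor
noncomputable section
namespace LP
inductive Gen
  | u
  | v
  deriving DecidableEq
abbrev u : FreeGroup Gen := FreeGroup.of Gen.u
abbrev v : FreeGroup Gen := FreeGroup.of Gen.v
def edges : List (Gen × ℕ × Gen) := []
def extra : List (FreeGroup Gen) := [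
  u * u,
  v * v * v * v * v * v,
  v⁻¹ * u * v⁻¹ * u * v⁻¹ * u * v⁻¹ * u * v⁻¹ * u * v⁻¹ * u * v⁻¹ * u,
  v⁻¹ * v⁻¹ * u * v⁻¹ * v⁻¹ * u * v⁻¹ * v⁻¹ * u * v * v * u * v * v * u * v * v * u,
  v⁻¹ * v⁻¹ * u * v * u * v⁻¹ * v⁻¹ * u * v * u * v⁻¹ * v⁻¹ * u * v * u * v⁻¹ * u * v⁻¹ * u * v * u ]
def iota : Gen → J2p.Gen
  | .u => .u
  | .v => .v
end LP

abbrev ncol : ℕ := 4
abbrev cM : ℕ := 29023
abbrev cN : ℕ := 7808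
abbrev cn : ℕ := 6048

def col : LP.Gen → Bool → ℕ
  | .u, true => 0
  | .u, false => 1
  | .v, true => 2
  | .v, false => 3

def letter : ℕ → LP.Gen × Bool
  | 0 => (.u, true)
  | 1 => (.u, false)
  | 2 => (.v, true)
  | 3 => (.v, false)
  | _ => (.u, true)

def ybar : ℕ → ℕ
  | 0 => 1
  | 1 => 0
  | 2 => 3
  | 3 => 2
  | y => y

abbrev rels : Set (FreeGroup LP.Gen) := coxRelators LP.edges ∪ {r | r ∈ LP.extra}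

abbrev relL : List (FreeGroup LP.Gen) := relList LP.edges LP.extra

def Sl : List (FreeGroup LP.Gen) := []

abbrev cS : Set (FreeGroup LP.Gen) := {}

def hwL : List (FreeGroup LP.Gen) := []

def hwf (j : ℕ) : FreeGroup LP.Gen := hwL.getD j 1

def relW : List (List ℕ) := [[0,0],[2,2,2,2,2,2],[3,0,3,0,3,0,3,0,3,0,3,0,3,0],[3,3,0,3,3,0,3,3,0,2,2,0,2,2,0,2,2,0],[3,3,0,2,0,3,3,0,2,0,3,3,0,2,0,3,0,3,0,2,0]]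

def chkW : List (List ℕ) := [[0,1],[1,0],[2,3],[3,2],[1,1],[3,3,3,3,3,3],[1,2,1,2,1,2,1,2,1,2,1,2,1,2],[1,3,3,1,3,3,1,3,3,1,2,2,1,2,2,1,2,2],[1,3,1,2,1,2,1,3,1,2,2,1,3,1,2,2,1,3,1,2,2]]

def psW : List (List ℕ) := []

def SW : List (List ℕ) := []

def hlet : List ℕ := []

def baseW : List (List ℕ) := mkBase ncol ybar relW psW

def wordT : BT (List ℕ) := (BT.node (BT.node (BT.node (BT.node (BT.node (BT.node (BT.node (BT.leaf [0,1]) (BT.leaf [0,3,0,2,0,3,3,0,2,0,3,3,0,2,0,3,3,0,2,0,3])) (BT.node (BT.leaf [3,1,3,3,1,3,3,1,2,2,1,2,2,1,2,2,1,3]) (BT.leaf [0,1]))) (BT.node (BT.node (BT.leaf [3,0,3,3,0,2,2,0,2,2,0,2,2,0,3,3,0,3]) (BT.leaf [1,3,1,2,2,1,3,1,2,2,1,3,1,2,1,2,1,3,1,2,2])) (BT.node (BT.leaf [3,3,0,2,0,3,3,0,2,0,3,3,0,2,0,3,0,3,0,2,0]) (BT.leaf [0,1])))) (BT.node (BT.node (BT.node (BT.leaf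 [3,0,3,0,3,0,3,0,3,0,3,0,3,0]) (BT.leaf [2,1,2,1,3,1,2,2,1,3,1,2,2,1,3,1,2,2,1,3,1])) (BT.node (BT.leaf [2,2,1,2,2,1,2,2,1,3,3,1,3,3,1,3,3,1]) (BT.leaf [0,1]))) (BT.node (BT.node (BT.leaf [2,2,0,2,2,0,3,3,0,3,3,0,3,3,0,2,2,0]) (BT.leaf [2,2,1,3,1,2,1,2,1,3,1,2,2,1,3,1,2,2,1,3,1])) (BT.node (BT.leaf [2,0,3,3,0,2,0,3,0,3,0,2,0,3,3,0,2,0,3,3,0]) (BT.leaf [0,1]))))) (BT.node (BT.node (BT.node (BT.node (BT.leaf [0,0]) (BT.leaf [0,3,3,0,2,0,3,3,0,2,0,3,3,0,2,0,3,0,3,0,2])) (BT.node (BT.leaf [1,3,3,1,2,2,1,2,2,1,2,2,1,3,3,1,3,3]) (BT.leaf [0,1]))) (BT.node (BT.node (BT.leaf [0,2,2,0,2,2,0,2,2,0,3,3,0,3,3,0,3,3]) (BT.leaf [2,1,3,1,2,2,1,3,1,2,1,2,1,3,1,2,2,1,3,1,2])) (BT.node (BT.leaf [0,3,3,0,2,0,3,3,0,2,0,3,0,3,0,2,0,3,3,0,2]) (BT.leaf [0,1])))) (BT.node (BT.node (BT.node (BT.leaf [3,3,0,3,3,0,3,3,0,2,2,0,2,2,0,2,2,0])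 (BT.leaf [3,1,2,2,1,3,1,2,2,1,3,1,2,2,1,3,1,2,1,2,1])) (BT.node (BT.leaf [2,1,2,2,1,3,3,1,3,3,1,3,3,1,2,2,1,2]) (BT.leaf [0,1]))) (BT.node (BT.node (BT.leaf [2,0,3,3,0,3,3,0,3,3,0,2,2,0,2,2,0,2]) (BT.leaf [0,1])) (BT.node (BT.leaf [0,2,0,3,0,3,0,2,0,3,3,0,2,0,3,3,0,2,0,3,3]) (BT.leaf [0,1])))))) (BT.node (BT.node (BT.node (BT.node (BT.node (BT.leaf [2,3]) (BT.leaf [0,2,0,3,3,0,2,0,3,3,0,2,0,3,3,0,2,0,3,0,3])) (BT.node (BT.leaf [3,3,1,3,3,1,2,2,1,2,2,1,2,2,1,3,3,1]) (BT.leaf [0,1]))) (BT.node (BT.node (BT.leaf [3,3,0,2,2,0,2,2,0,2,2,0,3,3,0,3,3,0]) (BT.leaf [1,2,2,1,3,1,2,2,1,3,1,2,1,2,1,3,1,2,2,1,3])) (BT.node (BT.leaf [0,2,0,3,3,0,2,0,3,3,0,2,0,3,0,3,0,2,0,3,3]) (BT.leaf [0,1])))) (BT.node (BT.node (BT.node (BT.leaf [1,2,1,2,1,2,1,2,1,2,1,2,1,2]) (BT.leaf [2,1,3,1,2,2,1,3,1,2,2,1,3,1,2,2,1,3,1,2,1]))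 (BT.node (BT.leaf [1,2,2,1,2,2,1,3,3,1,3,3,1,3,3,1,2,2]) (BT.leaf [0,1]))) (BT.node (BT.node (BT.leaf [0,2,2,0,3,3,0,3,3,0,3,3,0,2,2,0,2,2]) (BT.leaf [0,1])) (BT.node (BT.leaf [3,3,0,2,0,3,0,3,0,2,0,3,3,0,2,0,3,3,0,2,0]) (BT.leaf [0,1]))))) (BT.node (BT.node (BT.node (BT.node (BT.leaf [2,2,2,2,2,2]) (BT.leaf [3,1,2,1,2,1,3,1,2,2,1,3,1,2,2,1,3,1,2,2,1])) (BT.node (BT.leaf [3,1,2,2,1,2,2,1,2,2,1,3,3,1,3,3,1,3]) (BT.leaf [0,1]))) (BT.node (BT.node (BT.leaf [2,0,2,2,0,2,2,0,3,3,0,3,3,0,3,3,0,2]) (BT.leaf [3,1,2,2,1,3,1,2,1,2,1,3,1,2,2,1,3,1,2,2,1])) (BT.node (BT.leaf [3,0,2,0,3,3,0,2,0,3,0,3,0,2,0,3,3,0,2,0,3]) (BT.leaf [0,1])))) (BT.node (BT.node (BT.node (BT.leaf [0,3,3,0,3,3,0,2,2,0,2,2,0,2,2,0,3,3]) (BT.leaf [2,2,1,3,1,2,2,1,3,1,2,2,1,3,1,2,1,2,1,3,1])) (BT.node (BT.leaf [2,2,1,3,3,1,3,3,1,3,3,1,2,2,1,2,2,1])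 (BT.leaf [0,1]))) (BT.node (BT.node (BT.leaf [1,3,3,1,3,3,1,3,3,1,2,2,1,2,2,1,2,2]) (BT.leaf [0,1])) (BT.node (BT.leaf [0,3,0,3,0,2,0,3,3,0,2,0,3,3,0,2,0,3,3,0,2]) (BT.leaf [0,1]))))))) (BT.node (BT.node (BT.node (BT.node (BT.node (BT.node (BT.leaf [1,0]) (BT.leaf [3,0,2,0,3,3,0,2,0,3,3,0,2,0,3,3,0,2,0,3,0])) (BT.node (BT.leaf [1,3,3,1,3,3,1,2,2,1,2,2,1,2,2,1,3,3]) (BT.leaf [0,1]))) (BT.node (BT.node (BT.leaf [0,3,3,0,2,2,0,2,2,0,2,2,0,3,3,0,3,3]) (BT.leaf [3,1,2,2,1,3,1,2,2,1,3,1,2,1,2,1,3,1,2,2,1])) (BT.node (BT.leaf [3,0,2,0,3,3,0,2,0,3,3,0,2,0,3,0,3,0,2,0,3]) (BT.leaf [0,1])))) (BT.node (BT.node (BT.node (BT.leaf [0,3,0,3,0,3,0,3,0,3,0,3,0,3]) (BT.leaf [1,2,1,3,1,2,2,1,3,1,2,2,1,3,1,2,2,1,3,1,2])) (BT.node (BT.leaf [2,1,2,2,1,2,2,1,3,3,1,3,3,1,3,3,1,2]) (BT.leaf [0,1]))) (BT.node (BT.node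 (BT.leaf [2,0,2,2,0,3,3,0,3,3,0,3,3,0,2,2,0,2]) (BT.leaf [2,1,3,1,2,1,2,1,3,1,2,2,1,3,1,2,2,1,3,1,2])) (BT.node (BT.leaf [0,3,3,0,2,0,3,0,3,0,2,0,3,3,0,2,0,3,3,0,2]) (BT.leaf [0,1]))))) (BT.node (BT.node (BT.node (BT.node (BT.leaf [1,1]) (BT.leaf [1,3,1,2,1,2,1,3,1,2,2,1,3,1,2,2,1,3,1,2,2])) (BT.node (BT.leaf [3,3,1,2,2,1,2,2,1,2,2,1,3,3,1,3,3,1]) (BT.leaf [0,1]))) (BT.node (BT.node (BT.leaf [2,2,0,2,2,0,2,2,0,3,3,0,3,3,0,3,3,0]) (BT.leaf [1,3,1,2,2,1,3,1,2,1,2,1,3,1,2,2,1,3,1,2,2])) (BT.node (BT.leaf [3,3,0,2,0,3,3,0,2,0,3,0,3,0,2,0,3,3,0,2,0]) (BT.leaf [0,1])))) (BT.node (BT.node (BT.node (BT.leaf [3,0,3,3,0,3,3,0,2,2,0,2,2,0,2,2,0,3]) (BT.leaf [1,2,2,1,3,1,2,2,1,3,1,2,2,1,3,1,2,1,2,1,3])) (BT.node (BT.leaf [1,2,2,1,3,3,1,3,3,1,3,3,1,2,2,1,2,2]) (BT.leaf [0,1]))) (BT.node (BT.node (BT.leaf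 [0,3,3,0,3,3,0,3,3,0,2,2,0,2,2,0,2,2]) (BT.leaf [0,1])) (BT.node (BT.leaf [2,0,3,0,3,0,2,0,3,3,0,2,0,3,3,0,2,0,3,3,0]) (BT.leaf [0,1])))))) (BT.node (BT.node (BT.node (BT.node (BT.node (BT.leaf [3,2]) (BT.leaf [2,0,3,3,0,2,0,3,3,0,2,0,3,3,0,2,0,3,0,3,0])) (BT.node (BT.leaf [3,1,3,3,1,2,2,1,2,2,1,2,2,1,3,3,1,3]) (BT.leaf [0,1]))) (BT.node (BT.node (BT.leaf [3,0,2,2,0,2,2,0,2,2,0,3,3,0,3,3,0,3]) (BT.leaf [2,2,1,3,1,2,2,1,3,1,2,1,2,1,3,1,2,2,1,3,1])) (BT.node (BT.leaf [2,0,3,3,0,2,0,3,3,0,2,0,3,0,3,0,2,0,3,3,0]) (BT.leaf [0,1])))) (BT.node (BT.node (BT.node (BT.leaf [2,1,2,1,2,1,2,1,2,1,2,1,2,1]) (BT.leaf [1,3,1,2,2,1,3,1,2,2,1,3,1,2,2,1,3,1,2,1,2])) (BT.node (BT.leaf [2,2,1,2,2,1,3,3,1,3,3,1,3,3,1,2,2,1]) (BT.leaf [0,1]))) (BT.node (BT.node (BT.leaf [2,2,0,3,3,0,3,3,0,3,3,0,2,2,0,2,2,0]) (BT.leaf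 [0,1])) (BT.node (BT.leaf [3,0,2,0,3,0,3,0,2,0,3,3,0,2,0,3,3,0,2,0,3]) (BT.leaf [0,1]))))) (BT.node (BT.node (BT.node (BT.node (BT.leaf [3,3,3,3,3,3]) (BT.leaf [1,2,1,2,1,3,1,2,2,1,3,1,2,2,1,3,1,2,2,1,3])) (BT.node (BT.leaf [1,2,2,1,2,2,1,2,2,1,3,3,1,3,3,1,3,3]) (BT.leaf [0,1]))) (BT.node (BT.node (BT.leaf [0,2,2,0,2,2,0,3,3,0,3,3,0,3,3,0,2,2]) (BT.leaf [1,2,2,1,3,1,2,1,2,1,3,1,2,2,1,3,1,2,2,1,3])) (BT.node (BT.leaf [0,2,0,3,3,0,2,0,3,0,3,0,2,0,3,3,0,2,0,3,3]) (BT.leaf [0,1])))) (BT.node (BT.node (BT.node (BT.leaf [3,3,0,3,3,0,2,2,0,2,2,0,2,2,0,3,3,0]) (BT.leaf [2,1,3,1,2,2,1,3,1,2,2,1,3,1,2,1,2,1,3,1,2])) (BT.node (BT.leaf [2,1,3,3,1,3,3,1,3,3,1,2,2,1,2,2,1,2]) (BT.leaf [0,1]))) (BT.node (BT.node (BT.leaf [3,3,1,3,3,1,3,3,1,2,2,1,2,2,1,2,2,1]) (BT.leaf [0,1])) (BT.node (BT.leaf [3,0,3,0,2,0,3,3,0,2,0,3,3,0,2,0,3,3,0,2,0])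 (BT.leaf [0,1]))))))))

def cell : ℕ → ℕ → ℕ := mkCell (rdArr cellDT 40 11 1099511627775 2047) cN ncol 1099511627775
def eps : ℕ → ℕ := mkEps (rdArr epsDT 40 11 1099511627775 2047) cN 1099511627775
def stp : ℕ → ℕ := rdArr stpDT 48 11 281474976710655 2047
def defs : ℕ → ℕ := rdArr defDT 21 12 2097151 4095
def T (i y : ℕ) : ℕ := rdArr tabDT 13 13 8191 8191 (Nat.add (Nat.mul i ncol) y)
def live : ℕ → ℕ := rdArr liveDT 13 13 8191 8191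

theorem c_relW : relW.all (fun w => relL.any (fun r => w == fw col r)) = true := by decide +kernel
theorem c_ps : psW.all (fun w => (List.range 1).any (fun j => w == (ncol + 2 * j + 1) :: fw col (hwf j))) = true := by decide +kernel
theorem c_cov : relL.all (fun r => chkW.any (fun w => (List.range w.length).any (fun s => wordOf col r.toWord == w.rotate s))) = true := by decide +kernel
theorem c_lt : chkW.all (fun w => w.all (fun y => Nat.blt y ncol)) = true := by decide +kernel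
theorem c_pairs : (List.range ncol).all (fun y => chkW.contains [y, ybar y]) = true := by decide +kernel
theorem c_S : Sl.all (fun s => Nat.beq (walkR T (wordOf col s.toWord) 0) 0) = true := by decide +kernel
theorem c_hlet : hlet.all (fun y => Nat.blt y ncol && (letter y).2 && Sl.contains (FreeGroup.of (letter y).1)) = true := by decide +kernel
theorem c_sw1 : Sl.all (fun s => SW.contains (wordOf col s.toWord) && SW.contains (wordOf col (s⁻¹).toWord)) = true := by decide +kernel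
theorem c_sw2 : SW.all (fun w => Sl.any (fun s => w == wordOf col s.toWord || w == wordOf col (s⁻¹).toWord)) = true := by decide +kernel
theorem c_letter : (List.range ncol).all (fun y => Nat.beq (col (letter y).1 (letter y).2) y) = true := by decide +kernel

theorem c_leaf : BT.all (leafOK baseW) wordT = true := by decide +kernel
abbrev F_step : ℕ → Bool := guard cM (stepOK cell eps stp defs wordT.get ncol hlet)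
abbrev F_cell : ℕ → Bool := guard cN (fun g => (List.range ncol).all (fun y => consCell cell stp cM g y))
abbrev F_eps : ℕ → Bool := guard cN (consEps eps stp cM)
abbrev F_fin : ℕ → Bool := guard cn (finOK cell eps live T cM cn ncol)

end

end Cfsg.Agent.H07.CD.J2pL1
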