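import Mathlib
import Cfsg.Agent.Lib.H07.CD.J2pT
import Cfsg.Agent.Lib.H07.SimpleT2
set_option autoImplicit false
set_option maxRecDepth 1000000
namespace Cfsg.Agent.H07.CD.J2pT
open Cfsg.Agent.H07.Coset Cfsg.Agent.H07.SimpleT Cfsg.Spor
noncomputable section
def wordST : BT (List ℕ) := (BT.node (BT.node (BT.node (BT.leaf [1]) (BT.leaf [2,2])) (BT.node (BT.leaf [2,2]) (BT.leaf []))) (BT.node (BT.node (BT.leaf [3]) (BT.leaf [])) (BT.node (BT.leaf [3,1,2,2,0,2,0,2]) (BT.leaf []))))
def wordS : ℕ → List ℕ := wordST.get
def levL : List ℕ := [0,0,1,1,2]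
def levS (j : ℕ) : ℕ := levL.getD j 0
abbrev cJ : ℕ := 5
abbrev cL : ℕ := 3
def baseL : List ℕ := [1,3,97]
def szL : List ℕ := [63,32,3]
def baseS (i : ℕ) : ℕ := baseL.getD i 0
def szS (i : ℕ) : ℕ := szL.getD i 0
def E0T : BT ℕ := (BT.leaf (nat_lit 0xb0000003b0003fe801000340003e6400000310003dac01000300003cd801000320003bec010002b0003ac4010003c00039bc010002800038b4010003e00037dc000003a00036e400000260003544000002c00034d401000250003360010002d00032a8010002100031f4000001e000304c000001d0002f58010001c0002e40010001b0002d3c000001b0002ca400000200002bc800000380002ab80000036000296c000002400028e0010001700027cc01000330002668010003100025780100016000247c0000023000239c000001400022a00100014000215c000002d00020f001000120001f48010002c0001e5400000110001d3801000100001c3400000100001b1c000000f0001ac0010002700019d0000002500018700100024000178001000220001698010000a0001594000000a000142400000090001350010001d0001230010000800011180100007000101400000070000f7400000160000ef801000060000d8400000150000c9001000050000b20010000f0000a2c000000400009100100003000080c00000030000788010000b0000628010000900005080100001000048c0000005000030400000000000200000000000001))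
def E0 : ℕ → ℕ := rdArr E0T 56 6 72057594037927935 63
def E1T : BT ℕ := (BT.leaf (nat_lit 0x6006000040007f900c00054000fb601800028001bc0030000100036b806000300006b400c00024000d30010000a80019d8030001a0003290060003800060600800044000baa010000d000161002000130002b18060001800055e00c0003c000a4a0180009800129c020001600024e8060000800047c00c0007400085601000010000f0403000000001d68040001a00039300800024000662010000e0000c08020000c00017f806000280002da00c0007800039e010000080006a402000030000c40060002c00016a00c0000c00025c01800068000380000000000003))
def E1 : ℕ → ℕ := rdArr E1T 55 5 36028797018963967 31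
def E2T : BT ℕ := (BT.leaf (nat_lit 0x804000010006340400000000620000000000061))
def E2 : ℕ → ℕ := rdArr E2T 52 2 4503599627370495 3
def ES : ℕ → ℕ → ℕ
  | 0 => E0
  | 1 => E1
  | 2 => E2
  | _ => E0
def xW : List ℕ := [2,1,4,1,3,1]
end

end Cfsg.Agent.H07.CD.J2pT
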