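import Mathlib
import Cfsg.Agent.Lib.H07.CD.J2pTGD
set_option autoImplicit false
set_option maxRecDepth 1000000
namespace Cfsg.Agent.H07.CD.J2pT
open Cfsg.Agent.H07.Coset Cfsg.Agent.H07.SimpleT Cfsg.Spor
noncomputable section
theorem c_lvl0_0 : allR (guard 63 (lvlOK T wordS levS E0 63 cJ cn 0 1)) 6 (0 * 2 ^ 6) = true := by decide +kernel
theorem c_lvl1_0 : allR (guard 32 (lvlOK T wordS levS E1 32 cJ cn 1 3)) 6 (0 * 2 ^ 6) = true := by decide +kernel
theorem c_lvl2_0 : allR (guard 3 (lvlOK T wordS levS E2 3 cJ cn 2 97)) 2 (0 * 2 ^ 2) = true := by decide +kernel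
theorem c_xp_0 : allR (guard cn (fun i => Nat.beq (powW T xW 5 i) i)) 7 (0 * 2 ^ 7) = true := by decide +kernel

end

end Cfsg.Agent.H07.CD.J2pT
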