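import Mathlib
import Cfsg.Agent.Lib.H07.CD.ONFinal
import Cfsg.Agent.Lib.H07.CD.J1pFinal
import Cfsg.Agent.Lib.H07.CD.M11pFinal
import Cfsg.Agent.Lib.H07.Embed
import Cfsg.Agent.Lib.H07.PermRep
set_option autoImplicit false
set_option maxRecDepth 1000000
namespace Cfsg.Agent.H07.CD.ONEmb
open Cfsg.Agent.H07.Coset Cfsg.Agent.H07.SimpleT Cfsg.Agent.H07.TT3 Cfsg.Agent.H07.CD.ONT Cfsg.Spor
noncomputable section

abbrev GG : Type := Cfsg.Agent.H07.CD.ONFinal.GG

theorem inj_rho : Function.Injective (rhoT tabRep.hb tabRep.hi tabRep.hrel) := by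
  have : Finite GG := Cfsg.Agent.H07.CD.ONFinal.hub.1
  exact (card_and_inj (rhoT tabRep.hb tabRep.hi tabRep.hrel) Cfsg.Agent.H07.CD.ONFinal.hub.2 card_lower).2

theorem hr : Nat.card (rhoT tabRep.hb tabRep.hi tabRep.hrel).range ≤ cn * ∏ i ∈ Finset.range cL, szS i := by
  rw [← c_prod]
  have : Finite GG := Cfsg.Agent.H07.CD.ONFinal.hub.1
  exact le_trans (Nat.card_le_card_of_surjective _ (rhoT tabRep.hb tabRep.hi tabRep.hrel).rangeRestrict_surjective)
    Cfsg.Agent.H07.CD.ONFinal.hub.2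

/-- Triviality on the base. -/
def F_rel (w : List ℕ) : Bool :=
  Nat.beq (walkR T w 0) 0 && (List.range cL).all (fun i => Nat.beq (walkR T w (baseS i)) (baseS i))

theorem triv_of (w : List ℕ) (hw : ∀ y ∈ w, y < ncol) (h : F_rel w = true) : eltW rels letter w = 1 := by
  simp only [F_rel, Bool.and_eq_true, List.all_eq_true] at h
  refine eltW_eq_one_of_base tabRep hletter inj_rho wordS levS cJ cL baseS szS ES htrans sgs_hw sgs_h0
    sgs_hbase sgs_hfix sgs_hlvl hr w hw ?_ ?_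
  · have h1 := h.1
    rw [walkR_eq] at h1
    exact Nat.eq_of_beq_eq_true h1
  · intro i hi
    have h1 := h.2 i (List.mem_range.mpr hi)
    rw [walkR_eq] at h1
    exact Nat.eq_of_beq_eq_true h1

theorem c_mv : (Nat.blt 2 cn && !(Nat.beq (walkR T [2] 2) 2)) = true := by decide +kernel

theorem ne_one : eltW rels letter [2] ≠ 1 := by
  have h := c_mv
  simp only [Bool.and_eq_true, Bool.not_eq_true'] at h
  intro h1
  have h2 := rho_eltW tabRep hletter [2] (by intro y hy; simp only [List.mem_singleton] at hy; subst hy; decide) ⟨2, blt_lt h.1⟩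
  rw [h1, map_one] at h2
  have h3 : walk T 2 [2] = 2 := h2.symm
  have h4 := h.2
  rw [walkR_eq, h3] at h4
  have h5 : Nat.beq 2 2 = true := by decide
  rw [h5] at h4
  exact Bool.noConfusion h4

section J1

def bJ : List ℕ := [5,3,1,3,4,6,3,5,7,4,5,6,3,2,5,4,5,6,3,4,2,3,4,3,6,5,4,5,2,3,6,5,4,7,5,3,6,4,3,0,3,5]
def bJi : List ℕ := [5,3,1,3,4,6,3,5,7,4,5,6,3,2,5,4,5,6,3,4,3,2,4,3,6,5,4,5,2,3,6,5,4,7,5,3,6,4,3,0,3,5]

def encJ : J1p.Gen → Bool → List ℕ
  | .a, _ => [2]
  | .b, true => bJ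
  | .b, false => bJi

def fJ (x : J1p.Gen) : GG := eltW rels letter (encJ x true)

theorem c_J : Cfsg.Agent.H07.CD.J1pU.relL.all (fun r => F_rel (evalW encJ r.toWord)) = true := by decide +kernel
theorem c_Ji : (F_rel [2, 2] && F_rel (bJ ++ bJi)) = true := by decide +kernel

theorem hencJ : ∀ x c, ∀ y ∈ encJ x c, y < ncol := by
  have h : (bJ.all (fun y => Nat.blt y ncol) && bJi.all (fun y => Nat.blt y ncol)) = true := by decide +kernel
  simp only [Bool.and_eq_true, List.all_eq_true] at h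
  intro x c y hy
  cases x <;> cases c
  · simp only [encJ, List.mem_singleton] at hy; subst hy; decide
  · simp only [encJ, List.mem_singleton] at hy; subst hy; decide
  · exact blt_lt (h.2 y hy)
  · exact blt_lt (h.1 y hy)

theorem hfJ' (x : J1p.Gen) : eltW rels letter (encJ x false) = (fJ x)⁻¹ := by
  have h := c_Ji
  simp only [Bool.and_eq_true] at h
  apply eq_inv_of_mul_eq_one_left
  rw [fJ, ← eltW_append]
  cases x
  · exact triv_of _ (fun y hy => by
      simp only [encJ, List.mem_append, List.mem_singleton] at hy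
      rcases hy with rfl | rfl <;> decide) h.1
  · exact triv_of _ (fun y hy => by
      rcases List.mem_append.mp hy with h1 | h1
      · exact hencJ _ _ y h1
      · exact hencJ _ _ y h1) h.2

theorem hJ : ∀ r ∈ (coxRelators J1p.edges ∪ {r | r ∈ J1p.extra}), FreeGroup.lift fJ r = 1 := by
  intro r hr
  have h1 : r ∈ Cfsg.Agent.H07.CD.J1pU.relL := (mem_relList _ _ r).mpr hr
  rw [lift_evalW encJ fJ (fun _ => rfl) hfJ' r]
  exact triv_of _ (evalW_lt _ hencJ _) (List.all_eq_true.mp c_J r h1)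

def ψJ : Cfsg.Agent.H07.CD.J1pFinal.GG →* GG := PresentedGroup.toGroup hJ

theorem ψJ_of : ψJ (PresentedGroup.of J1p.Gen.a) = eltW rels letter [2] := PresentedGroup.toGroup.of hJ

end J1

section M11

def bM : List ℕ := [0,3,5,4,6,5,4,1,6,1,6,7,6,5,3,0,4,6,5,7,3,6,0,6,3,7,5,6,4,1,3,5,6,7,6,0,6,0,4,5,6,4,5,3,1]
def bMi : List ℕ := [0,3,5,4,6,5,4,1,6,1,6,7,6,5,3,0,4,6,5,7,3,6,1,6,3,7,5,6,4,1,3,5,6,7,6,0,6,0,4,5,6,4,5,3,1]

def encM : M11p.Gen → Bool → List ℕ
  | .a, _ => [2]
  | .b, true => bM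
  | .b, false => bMi

def fM (x : M11p.Gen) : GG := eltW rels letter (encM x true)

theorem c_M : Cfsg.Agent.H07.CD.M11pU.relL.all (fun r => F_rel (evalW encM r.toWord)) = true := by decide +kernel
theorem c_Mi : (F_rel [2, 2] && F_rel (bM ++ bMi)) = true := by decide +kernel

theorem hencM : ∀ x c, ∀ y ∈ encM x c, y < ncol := by
  have h : (bM.all (fun y => Nat.blt y ncol) && bMi.all (fun y => Nat.blt y ncol)) = true := by decide +kernel
  simp only [Bool.and_eq_true, List.all_eq_true] at h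
  intro x c y hy
  cases x <;> cases c
  · simp only [encM, List.mem_singleton] at hy; subst hy; decide
  · simp only [encM, List.mem_singleton] at hy; subst hy; decide
  · exact blt_lt (h.2 y hy)
  · exact blt_lt (h.1 y hy)

theorem hfM' (x : M11p.Gen) : eltW rels letter (encM x false) = (fM x)⁻¹ := by
  have h := c_Mi
  simp only [Bool.and_eq_true] at h
  apply eq_inv_of_mul_eq_one_left
  rw [fM, ← eltW_append]
  cases x
  · exact triv_of _ (fun y hy => by
      simp only [encM, List.mem_append, List.mem_singleton] at hy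
      rcases hy with rfl | rfl <;> decide) h.1
  · exact triv_of _ (fun y hy => by
      rcases List.mem_append.mp hy with h1 | h1
      · exact hencM _ _ y h1
      · exact hencM _ _ y h1) h.2

theorem hM : ∀ r ∈ (coxRelators M11p.edges ∪ {r | r ∈ M11p.extra}), FreeGroup.lift fM r = 1 := by
  intro r hr
  have h1 : r ∈ Cfsg.Agent.H07.CD.M11pU.relL := (mem_relList _ _ r).mpr hr
  rw [lift_evalW encM fM (fun _ => rfl) hfM' r]
  exact triv_of _ (evalW_lt _ hencM _) (List.all_eq_true.mp c_M r h1)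

def ψM : Cfsg.Agent.H07.CD.M11pFinal.GG →* GG := PresentedGroup.toGroup hM

theorem ψM_of : ψM (PresentedGroup.of M11p.Gen.a) = eltW rels letter [2] := PresentedGroup.toGroup.of hM

end M11

/-- The permutation group and its subgroups. -/
theorem main : ∃ H : Subgroup (Equiv.Perm (Fin 122760)), Cfsg.IsON H ∧ MulAction.IsPretransitive H (Fin 122760) ∧
    Nat.card (MulAction.stabilizer H (0 : Fin 122760)) = 3753792 ∧ (∃ K : Subgroup H, Cfsg.IsJ1 K) ∧
    (∃ K : Subgroup H, Cfsg.IsM11 K) := by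
  have : Finite GG := Cfsg.Agent.H07.CD.ONFinal.hub.1
  let ρ := rhoT tabRep.hb tabRep.hi tabRep.hrel
  have hres := Cfsg.Agent.H07.CD.ONFinal.result
  obtain ⟨h1, h2⟩ := rep_simple ρ inj_rho hres.1
  obtain ⟨e2⟩ := rep_stab ρ inj_rho htrans _ (rhoT_fix tabRep.hb tabRep.hi tabRep.hrel hSfix) index_eq
  refine ⟨ρ.range, ⟨h1, ?_⟩, rep_pretrans ρ htrans, ?_, ?_, ?_⟩
  · rw [h2]
    exact hres.2
  · rw [← Nat.card_congr e2.toEquiv]
    have h3 := Subgroup.card_mul_index ((Subgroup.closure cS).map (PresentedGroup.mk rels))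
    rw [index_eq, hres.2] at h3
    have h4 : cn = 122760 := rfl
    rw [h4] at h3
    omega
  · let φ : Cfsg.Agent.H07.CD.J1pFinal.GG →* ρ.range := ρ.rangeRestrict.comp ψJ
    have hne : ∃ x, φ x ≠ 1 := by
      refine ⟨PresentedGroup.of J1p.Gen.a, fun h => ne_one ?_⟩
      apply inj_rho
      have h5 : ρ (ψJ (PresentedGroup.of J1p.Gen.a)) = 1 := congrArg Subtype.val h
      rw [ψJ_of] at h5
      rw [map_one]
      exact h5
    obtain ⟨h6, h7⟩ := range_simple Cfsg.Agent.H07.CD.J1pFinal.result.1 φ hne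
    exact ⟨φ.range, h6, h7.trans Cfsg.Agent.H07.CD.J1pFinal.result.2⟩
  · let φ : Cfsg.Agent.H07.CD.M11pFinal.GG →* ρ.range := ρ.rangeRestrict.comp ψM
    have hne : ∃ x, φ x ≠ 1 := by
      refine ⟨PresentedGroup.of M11p.Gen.a, fun h => ne_one ?_⟩
      apply inj_rho
      have h5 : ρ (ψM (PresentedGroup.of M11p.Gen.a)) = 1 := congrArg Subtype.val h
      rw [ψM_of] at h5
      rw [map_one]
      exact h5
    obtain ⟨h6, h7⟩ := range_simple Cfsg.Agent.H07.CD.M11pFinal.result.1 φ hne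
    exact ⟨φ.range, h6, h7.trans Cfsg.Agent.H07.CD.M11pFinal.result.2⟩

end

end Cfsg.Agent.H07.CD.ONEmb
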