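import Mathlib
import Cfsg.Agent.Lib.H07.CD.ONTD
set_option autoImplicit false
set_option maxRecDepth 1000000
namespace Cfsg.Agent.H07.CD.ONT
open Cfsg.Agent.H07.Coset Cfsg.Spor
noncomputable section

abbrev ncol : ℕ := 8
abbrev cM : ℕ := 1259267
abbrev cN : ℕ := 193496
abbrev cn : ℕ := 122760

def col : ON.Gen → Bool → ℕ
  | .g, true => 0
  | .g, false => 1
  | .a, true => 2
  | .a, false => 2
  | .b, true => 3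
  | .b, false => 3
  | .c, true => 4
  | .c, false => 4
  | .d, true => 5
  | .d, false => 5
  | .e, true => 6
  | .e, false => 6
  | .f, true => 7
  | .f, false => 7

def letter : ℕ → ON.Gen × Bool
  | 0 => (.g, true)
  | 1 => (.g, false)
  | 2 => (.a, true)
  | 3 => (.b, true)
  | 4 => (.c, true)
  | 5 => (.d, true)
  | 6 => (.e, true)
  | 7 => (.f, true)
  | _ => (.g, true)

def ybar : ℕ → ℕ
  | 0 => 1
  | 1 => 0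
  | 2 => 2
  | 3 => 3
  | 4 => 4
  | 5 => 5
  | 6 => 6
  | 7 => 7
  | y => y

abbrev rels : Set (FreeGroup ON.Gen) := coxRelators ON.edges ∪ {r | r ∈ ON.extra}

abbrev relL : List (FreeGroup ON.Gen) := relList ON.edges ON.extra

def Sl : List (FreeGroup ON.Gen) := [ON.a, ON.b, ON.c, ON.d, ON.e, ON.f]

abbrev cS : Set (FreeGroup ON.Gen) := {ON.a, ON.b, ON.c, ON.d, ON.e, ON.f}

def hwL : List (FreeGroup ON.Gen) := []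

def hwf (j : ℕ) : FreeGroup ON.Gen := hwL.getD j 1

def relW : List (List ℕ) := [[2,3,2,3,2,3],[2,4,2,4],[2,5,2,5],[2,6,2,6],[2,7,2,7],[3,4,3,4,3,4],[3,5,3,5],[3,6,3,6],[3,7,3,7],[4,5,4,5,4,5,4,5,4,5,4,5,4,5,4,5],[4,6,4,6],[4,7,4,7],[5,6,5,6,5,6],[5,7,5,7],[6,7,6,7,6,7],[2,7,1,1],[2,7,5,4,5,4,5,4,5,4],[4,1,5,1,5,4,5,0,5,0],[5,1,4,1,4,5,4,0,4,0],[3,4,5,0,3,4,5,0,3,4,5,0,3,4,5,0,3,4,5,0],[0,3,4,0,4,3,0,3,4,0,4],[0,6,5,0,5,6,0,6,5,0,5]]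

def chkW : List (List ℕ) := [[0,1],[1,0],[2,2],[3,3],[4,4],[5,5],[6,6],[7,7],[3,2,3,2,3,2],[4,2,4,2],[5,2,5,2],[6,2,6,2],[7,2,7,2],[4,3,4,3,4,3],[5,3,5,3],[6,3,6,3],[7,3,7,3],[5,4,5,4,5,4,5,4,5,4,5,4,5,4,5,4],[6,4,6,4],[7,4,7,4],[6,5,6,5,6,5],[7,5,7,5],[7,6,7,6,7,6],[0,0,7,2],[4,5,4,5,4,5,4,5,7,2],[1,5,1,5,4,5,0,5,0,4],[1,4,1,4,5,4,0,4,0,5],[1,5,4,3,1,5,4,3,1,5,4,3,1,5,4,3,1,5,4,3],[4,1,4,3,1,3,4,1,4,3,1],[5,1,5,6,1,6,5,1,5,6,1]]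

def psW : List (List ℕ) := []

def SW : List (List ℕ) := [[2],[3],[4],[5],[6],[7]]

def hlet : List ℕ := [2,3,4,5,6,7]

def baseW : List (List ℕ) := mkBase ncol ybar relW psW

def wordT : BT (List ℕ) := (BT.node (BT.node (BT.node (BT.node (BT.node (BT.node (BT.node (BT.node (BT.leaf [0,1]) (BT.leaf [1,5,6,1,6,5,1,5,6,1,5])) (BT.node (BT.leaf [7,2,4,5,4,5,4,5,4,5]) (BT.leaf [0,1]))) (BT.node (BT.node (BT.leaf [5,6,5,6,5,6]) (BT.leaf [0,1])) (BT.node (BT.leaf [4,0,4,3,0,3,4,0,4,0,3]) (BT.leaf [0,1])))) (BT.node (BT.node (BT.node (BT.leaf [2,7,2,7]) (BT.leaf [0,1])) (BT.node (BT.leaf [4,5,4,0,4,0,5,1,4,1]) (BT.leaf [0,1]))) (BT.node (BT.node (BT.leaf [5,4,5,4,5,4,5,4,2,7]) (BT.leaf [0,1])) (BT.node (BT.leaf [1,4,3,1,4,1,4,3,1,3,4]) (BT.leaf [0,1]))))) (BT.node (BT.node (BT.node (BT.node (BT.leaf [2,3,2,3,2,3]) (BT.leaf [6,1,5,1,5,6,1,6,5,1,5]))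 (BT.node (BT.leaf [5,0,5,0,4,1,5,1,5,4]) (BT.leaf [0,1]))) (BT.node (BT.node (BT.leaf [1,1,2,7]) (BT.leaf [0,1])) (BT.node (BT.leaf [4,0,3,4,0,4,3,0,3,4,0]) (BT.leaf [0,1])))) (BT.node (BT.node (BT.node (BT.leaf [3,7,3,7]) (BT.leaf [0,1])) (BT.node (BT.leaf [5,0,3,4,5,0,3,4,5,0,3,4,5,0,3,4,5,0,3,4]) (BT.leaf [0,1]))) (BT.node (BT.node (BT.leaf [4,5,4,5,4,5,4,5,7,2]) (BT.leaf [0,1])) (BT.node (BT.leaf [5,6,0,6,5,0,5,0,6,5,0]) (BT.leaf [0,1])))))) (BT.node (BT.node (BT.node (BT.node (BT.node (BT.leaf [4,4]) (BT.leaf [6,5,1,5,6,1,5,1,5,6,1])) (BT.node (BT.leaf [5,1,5,4,5,0,5,0,4,1]) (BT.leaf [0,1]))) (BT.node (BT.node (BT.leaf [6,7,6,7,6,7]) (BT.leaf [0,1])) (BT.node (BT.leaf [0,3,4,0,4,0,3,4,0,4,3]) (BT.leaf [0,1])))) (BT.node (BT.node (BT.node (BT.leaf [3,5,3,5]) (BT.leaf [0,1])) (BT.node (BT.leaf [4,0,5,1,4,1,4,5,4,0])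 (BT.leaf [0,1]))) (BT.node (BT.node (BT.leaf [5,4,5,4,2,7,5,4,5,4]) (BT.leaf [0,1])) (BT.node (BT.leaf [0,6,5,0,5,6,0,6,5,0,5]) (BT.leaf [0,1]))))) (BT.node (BT.node (BT.node (BT.node (BT.leaf [2,5,2,5]) (BT.leaf [0,1])) (BT.node (BT.leaf [5,1,4,1,4,5,4,0,4,0]) (BT.leaf [0,1]))) (BT.node (BT.node (BT.leaf [7,2,0,0]) (BT.leaf [0,1])) (BT.node (BT.leaf [3,1,3,4,1,4,3,1,4,1,4]) (BT.leaf [0,1])))) (BT.node (BT.node (BT.node (BT.leaf [4,6,4,6]) (BT.leaf [0,1])) (BT.node (BT.leaf [4,3,1,5,4,3,1,5,4,3,1,5,4,3,1,5,4,3,1,5]) (BT.leaf [0,1]))) (BT.node (BT.node (BT.leaf [4,5,4,5,7,2,4,5,4,5]) (BT.leaf [0,1])) (BT.node (BT.leaf [5,0,5,0,6,5,0,5,6,0,6]) (BT.leaf [0,1]))))))) (BT.node (BT.node (BT.node (BT.node (BT.node (BT.node (BT.leaf [2,2]) (BT.leaf [6,1,6,5,1,5,6,1,5,1,5])) (BT.node (BT.leaf [4,1,5,1,5,4,5,0,5,0]) (BT.leaf [0,1])))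 (BT.node (BT.node (BT.leaf [5,7,5,7]) (BT.leaf [0,1])) (BT.node (BT.leaf [4,3,0,3,4,0,4,0,3,4,0]) (BT.leaf [0,1])))) (BT.node (BT.node (BT.node (BT.leaf [3,4,3,4,3,4]) (BT.leaf [0,1])) (BT.node (BT.leaf [4,0,4,0,5,1,4,1,4,5]) (BT.leaf [0,1]))) (BT.node (BT.node (BT.leaf [5,4,5,4,5,4,2,7,5,4]) (BT.leaf [0,1])) (BT.node (BT.leaf [3,1,4,1,4,3,1,3,4,1,4]) (BT.leaf [0,1]))))) (BT.node (BT.node (BT.node (BT.node (BT.leaf [2,4,2,4]) (BT.leaf [0,1])) (BT.node (BT.leaf [5,0,4,1,5,1,5,4,5,0]) (BT.leaf [0,1]))) (BT.node (BT.node (BT.leaf [0,0,7,2]) (BT.leaf [0,1])) (BT.node (BT.leaf [1,4,3,1,3,4,1,4,3,1,4]) (BT.leaf [0,1])))) (BT.node (BT.node (BT.node (BT.leaf [4,5,4,5,4,5,4,5,4,5,4,5,4,5,4,5]) (BT.leaf [0,1])) (BT.node (BT.leaf [1,5,4,3,1,5,4,3,1,5,4,3,1,5,4,3,1,5,4,3]) (BT.leaf [0,1]))) (BT.node (BT.node (BT.leaf [4,5,4,5,4,5,7,2,4,5])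 (BT.leaf [0,1])) (BT.node (BT.leaf [0,6,5,0,5,0,6,5,0,5,6]) (BT.leaf [0,1])))))) (BT.node (BT.node (BT.node (BT.node (BT.node (BT.leaf [6,6]) (BT.leaf [1,5,6,1,5,1,5,6,1,6,5])) (BT.node (BT.leaf [5,4,5,0,5,0,4,1,5,1]) (BT.leaf [0,1]))) (BT.node (BT.node (BT.leaf [2,7,1,1]) (BT.leaf [0,1])) (BT.node (BT.leaf [4,0,4,0,3,4,0,4,3,0,3]) (BT.leaf [0,1])))) (BT.node (BT.node (BT.node (BT.leaf [3,6,3,6]) (BT.leaf [0,1])) (BT.node (BT.leaf [3,4,5,0,3,4,5,0,3,4,5,0,3,4,5,0,3,4,5,0]) (BT.leaf [0,1]))) (BT.node (BT.node (BT.leaf [5,4,2,7,5,4,5,4,5,4]) (BT.leaf [0,1])) (BT.node (BT.leaf [5,0,5,6,0,6,5,0,5,0,6]) (BT.leaf [0,1]))))) (BT.node (BT.node (BT.node (BT.node (BT.leaf [2,6,2,6]) (BT.leaf [0,1])) (BT.node (BT.leaf [4,1,4,5,4,0,4,0,5,1]) (BT.leaf [0,1]))) (BT.node (BT.node (BT.leaf [2,7,5,4,5,4,5,4,5,4]) (BT.leaf [0,1])) (BT.node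 (BT.leaf [3,4,1,4,3,1,4,1,4,3,1]) (BT.leaf [0,1])))) (BT.node (BT.node (BT.node (BT.leaf [4,7,4,7]) (BT.leaf [0,1])) (BT.node (BT.leaf [0,3,4,0,4,3,0,3,4,0,4]) (BT.leaf [0,1]))) (BT.node (BT.node (BT.leaf [4,5,7,2,4,5,4,5,4,5]) (BT.leaf [0,1])) (BT.node (BT.leaf [5,0,6,5,0,5,6,0,6,5,0]) (BT.leaf [0,1])))))))) (BT.node (BT.node (BT.node (BT.node (BT.node (BT.node (BT.node (BT.leaf [1,0]) (BT.leaf [5,6,1,6,5,1,5,6,1,5,1])) (BT.node (BT.leaf [2,4,5,4,5,4,5,4,5,7]) (BT.leaf [0,1]))) (BT.node (BT.node (BT.leaf [6,5,6,5,6,5]) (BT.leaf [0,1])) (BT.node (BT.leaf [0,4,3,0,3,4,0,4,0,3,4]) (BT.leaf [0,1])))) (BT.node (BT.node (BT.node (BT.leaf [7,2,7,2]) (BT.leaf [0,1])) (BT.node (BT.leaf [5,4,0,4,0,5,1,4,1,4]) (BT.leaf [0,1]))) (BT.node (BT.node (BT.leaf [4,5,4,5,4,5,4,2,7,5]) (BT.leaf [0,1])) (BT.node (BT.leaf [4,3,1,4,1,4,3,1,3,4,1])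 (BT.leaf [0,1]))))) (BT.node (BT.node (BT.node (BT.node (BT.leaf [3,2,3,2,3,2]) (BT.leaf [1,5,1,5,6,1,6,5,1,5,6])) (BT.node (BT.leaf [0,5,0,4,1,5,1,5,4,5]) (BT.leaf [0,1]))) (BT.node (BT.node (BT.leaf [1,2,7,1]) (BT.leaf [0,1])) (BT.node (BT.leaf [4,1,4,3,1,3,4,1,4,3,1]) (BT.leaf [0,1])))) (BT.node (BT.node (BT.node (BT.leaf [7,3,7,3]) (BT.leaf [0,1])) (BT.node (BT.leaf [0,3,4,5,0,3,4,5,0,3,4,5,0,3,4,5,0,3,4,5]) (BT.leaf [0,1]))) (BT.node (BT.node (BT.leaf [5,4,5,4,5,4,5,7,2,4]) (BT.leaf [0,1])) (BT.node (BT.leaf [6,0,6,5,0,5,0,6,5,0,5]) (BT.leaf [0,1])))))) (BT.node (BT.node (BT.node (BT.node (BT.node (BT.leaf [5,5]) (BT.leaf [5,1,5,6,1,5,1,5,6,1,6])) (BT.node (BT.leaf [1,5,4,5,0,5,0,4,1,5]) (BT.leaf [0,1]))) (BT.node (BT.node (BT.leaf [7,6,7,6,7,6]) (BT.leaf [0,1])) (BT.node (BT.leaf [3,4,0,4,0,3,4,0,4,3,0]) (BT.leaf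 [0,1])))) (BT.node (BT.node (BT.node (BT.leaf [5,3,5,3]) (BT.leaf [0,1])) (BT.node (BT.leaf [0,5,1,4,1,4,5,4,0,4]) (BT.leaf [0,1]))) (BT.node (BT.node (BT.leaf [4,5,4,2,7,5,4,5,4,5]) (BT.leaf [0,1])) (BT.node (BT.leaf [6,5,0,5,6,0,6,5,0,5,0]) (BT.leaf [0,1]))))) (BT.node (BT.node (BT.node (BT.node (BT.leaf [5,2,5,2]) (BT.leaf [0,1])) (BT.node (BT.leaf [1,4,1,4,5,4,0,4,0,5]) (BT.leaf [0,1]))) (BT.node (BT.node (BT.leaf [2,0,0,7]) (BT.leaf [0,1])) (BT.node (BT.leaf [1,3,4,1,4,3,1,4,1,4,3]) (BT.leaf [0,1])))) (BT.node (BT.node (BT.node (BT.leaf [6,4,6,4]) (BT.leaf [0,1])) (BT.node (BT.leaf [3,1,5,4,3,1,5,4,3,1,5,4,3,1,5,4,3,1,5,4]) (BT.leaf [0,1]))) (BT.node (BT.node (BT.leaf [5,4,5,7,2,4,5,4,5,4]) (BT.leaf [0,1])) (BT.node (BT.leaf [0,5,0,6,5,0,5,6,0,6,5]) (BT.leaf [0,1]))))))) (BT.node (BT.node (BT.node (BT.node (BT.node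 (BT.node (BT.leaf [3,3]) (BT.leaf [1,6,5,1,5,6,1,5,1,5,6])) (BT.node (BT.leaf [1,5,1,5,4,5,0,5,0,4]) (BT.leaf [0,1]))) (BT.node (BT.node (BT.leaf [7,5,7,5]) (BT.leaf [0,1])) (BT.node (BT.leaf [3,0,3,4,0,4,0,3,4,0,4]) (BT.leaf [0,1])))) (BT.node (BT.node (BT.node (BT.leaf [4,3,4,3,4,3]) (BT.leaf [0,1])) (BT.node (BT.leaf [0,4,0,5,1,4,1,4,5,4]) (BT.leaf [0,1]))) (BT.node (BT.node (BT.leaf [4,5,4,5,4,2,7,5,4,5]) (BT.leaf [0,1])) (BT.node (BT.leaf [1,4,1,4,3,1,3,4,1,4,3]) (BT.leaf [0,1]))))) (BT.node (BT.node (BT.node (BT.node (BT.leaf [4,2,4,2]) (BT.leaf [0,1])) (BT.node (BT.leaf [0,4,1,5,1,5,4,5,0,5]) (BT.leaf [0,1]))) (BT.node (BT.node (BT.leaf [0,7,2,0]) (BT.leaf [0,1])) (BT.node (BT.leaf [4,3,1,3,4,1,4,3,1,4,1]) (BT.leaf [0,1])))) (BT.node (BT.node (BT.node (BT.leaf [5,4,5,4,5,4,5,4,5,4,5,4,5,4,5,4]) (BT.leaf [0,1]))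 (BT.node (BT.leaf [5,4,3,1,5,4,3,1,5,4,3,1,5,4,3,1,5,4,3,1]) (BT.leaf [0,1]))) (BT.node (BT.node (BT.leaf [5,4,5,4,5,7,2,4,5,4]) (BT.leaf [0,1])) (BT.node (BT.leaf [6,5,0,5,0,6,5,0,5,6,0]) (BT.leaf [0,1])))))) (BT.node (BT.node (BT.node (BT.node (BT.node (BT.leaf [7,7]) (BT.leaf [5,6,1,5,1,5,6,1,6,5,1])) (BT.node (BT.leaf [4,5,0,5,0,4,1,5,1,5]) (BT.leaf [0,1]))) (BT.node (BT.node (BT.leaf [7,1,1,2]) (BT.leaf [0,1])) (BT.node (BT.leaf [0,4,0,3,4,0,4,3,0,3,4]) (BT.leaf [0,1])))) (BT.node (BT.node (BT.node (BT.leaf [6,3,6,3]) (BT.leaf [0,1])) (BT.node (BT.leaf [4,5,0,3,4,5,0,3,4,5,0,3,4,5,0,3,4,5,0,3]) (BT.leaf [0,1]))) (BT.node (BT.node (BT.leaf [4,2,7,5,4,5,4,5,4,5]) (BT.leaf [0,1])) (BT.node (BT.leaf [0,5,6,0,6,5,0,5,0,6,5]) (BT.leaf [0,1]))))) (BT.node (BT.node (BT.node (BT.node (BT.leaf [6,2,6,2]) (BT.leaf [0,1])) (BT.node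 (BT.leaf [1,4,5,4,0,4,0,5,1,4]) (BT.leaf [0,1]))) (BT.node (BT.node (BT.leaf [7,5,4,5,4,5,4,5,4,2]) (BT.leaf [0,1])) (BT.node (BT.leaf [4,1,4,3,1,4,1,4,3,1,3]) (BT.leaf [0,1])))) (BT.node (BT.node (BT.node (BT.leaf [7,4,7,4]) (BT.leaf [0,1])) (BT.node (BT.leaf [3,4,0,4,3,0,3,4,0,4,0]) (BT.leaf [0,1]))) (BT.node (BT.node (BT.leaf [5,7,2,4,5,4,5,4,5,4]) (BT.leaf [0,1])) (BT.node (BT.leaf [5,1,5,6,1,6,5,1,5,6,1]) (BT.leaf [0,1])))))))))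

def cell : ℕ → ℕ → ℕ := mkCell (rdArr cellDT 46 11 70368744177663 2047) cN ncol 70368744177663
def eps : ℕ → ℕ := mkEps (rdArr epsDT 46 11 70368744177663 2047) cN 70368744177663
def stp : ℕ → ℕ := rdArr stpDT 53 11 9007199254740991 2047
def defs : ℕ → ℕ := rdArr defDT 26 12 67108863 4095
def T (i y : ℕ) : ℕ := rdArr tabDT 17 12 131071 4095 (Nat.add (Nat.mul i ncol) y)
def live : ℕ → ℕ := rdArr liveDT 18 12 262143 4095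

theorem c_relW : relW.all (fun w => relL.any (fun r => w == fw col r)) = true := by decide +kernel
theorem c_ps : psW.all (fun w => (List.range 1).any (fun j => w == (ncol + 2 * j + 1) :: fw col (hwf j))) = true := by decide +kernel
theorem c_cov : relL.all (fun r => chkW.any (fun w => (List.range w.length).any (fun s => wordOf col r.toWord == w.rotate s))) = true := by decide +kernel
theorem c_lt : chkW.all (fun w => w.all (fun y => Nat.blt y ncol)) = true := by decide +kernel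
theorem c_pairs : (List.range ncol).all (fun y => chkW.contains [y, ybar y]) = true := by decide +kernel
theorem c_S : Sl.all (fun s => Nat.beq (walkR T (wordOf col s.toWord) 0) 0) = true := by decide +kernel
theorem c_hlet : hlet.all (fun y => Nat.blt y ncol && (letter y).2 && Sl.contains (FreeGroup.of (letter y).1)) = true := by decide +kernel
theorem c_sw1 : Sl.all (fun s => SW.contains (wordOf col s.toWord) && SW.contains (wordOf col (s⁻¹).toWord)) = true := by decide +kernel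
theorem c_sw2 : SW.all (fun w => Sl.any (fun s => w == wordOf col s.toWord || w == wordOf col (s⁻¹).toWord)) = true := by decide +kernel
theorem c_letter : (List.range ncol).all (fun y => Nat.beq (col (letter y).1 (letter y).2) y) = true := by decide +kernel

theorem c_leaf : BT.all (leafOK baseW) wordT = true := by decide +kernel
abbrev F_step : ℕ → Bool := guard cM (stepOK cell eps stp defs wordT.get ncol hlet)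
abbrev F_cell : ℕ → Bool := guard cN (fun g => (List.range ncol).all (fun y => consCell cell stp cM g y))
abbrev F_eps : ℕ → Bool := guard cN (consEps eps stp cM)
abbrev F_fin : ℕ → Bool := guard cn (finOK cell eps live T cM cn ncol)
abbrev F_rel : ℕ → Bool := guard cn (relOK T chkW)
abbrev F_desc : ℕ → Bool := guard cn (descOK T ncol SW)
abbrev F_orb0 : ℕ → Bool := guard cn (orbOK T SW 1 58654)
abbrev F_orb1 : ℕ → Bool := guard cn (orbOK T SW 58654 110790)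
abbrev F_orb2 : ℕ → Bool := guard cn (orbOK T SW 110790 116376)
abbrev F_orb3 : ℕ → Bool := guard cn (orbOK T SW 116376 122760)

end

end Cfsg.Agent.H07.CD.ONT
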