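import Mathlib
import Cfsg.Agent.Lib.H07.CD.ONTM
set_option autoImplicit false
set_option maxRecDepth 1000000
namespace Cfsg.Agent.H07.CD.ONT
open Cfsg.Agent.H07.Coset Cfsg.Spor
noncomputable section
theorem c_step_299 : allR F_step 12 (299 * 2 ^ 12) = true := by decide +kernel
theorem c_step_300 : allR F_step 12 (300 * 2 ^ 12) = true := by decide +kernel
theorem c_step_301 : allR F_step 12 (301 * 2 ^ 12) = true := by decide +kernel
theorem c_step_302 : allR F_step 12 (302 * 2 ^ 12) = true := by decide +kernel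
theorem c_step_303 : allR F_step 12 (303 * 2 ^ 12) = true := by decide +kernel
theorem c_step_304 : allR F_step 12 (304 * 2 ^ 12) = true := by decide +kernel
theorem c_step_305 : allR F_step 12 (305 * 2 ^ 12) = true := by decide +kernel
theorem c_step_306 : allR F_step 12 (306 * 2 ^ 12) = true := by decide +kernel
theorem c_step_307 : allR F_step 12 (307 * 2 ^ 12) = true := by decide +kernel
theorem c_cell_0_l_l_l : allR F_cell 12 (0 * 2 ^ 15) = true := by decide +kernel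
theorem c_cell_0_l_l_r : allR F_cell 12 (0 * 2 ^ 15 + 2 ^ 12) = true := by decide +kernel
theorem c_cell_0_l_l : allR F_cell 13 (0 * 2 ^ 15) = true := allR_of_parts F_cell 12 _ c_cell_0_l_l_l c_cell_0_l_l_r
theorem c_cell_0_l_r_l : allR F_cell 12 (0 * 2 ^ 15 + 2 ^ 13) = true := by decide +kernel
theorem c_cell_0_l_r_r : allR F_cell 12 (0 * 2 ^ 15 + 2 ^ 13 + 2 ^ 12) = true := by decide +kernel
theorem c_cell_0_l_r : allR F_cell 13 (0 * 2 ^ 15 + 2 ^ 13) = true := allR_of_parts F_cell 12 _ c_cell_0_l_r_l c_cell_0_l_r_r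
theorem c_cell_0_l : allR F_cell 14 (0 * 2 ^ 15) = true := allR_of_parts F_cell 13 _ c_cell_0_l_l c_cell_0_l_r
theorem c_cell_0_r_l_l : allR F_cell 12 (0 * 2 ^ 15 + 2 ^ 14) = true := by decide +kernel
theorem c_cell_0_r_l_r : allR F_cell 12 (0 * 2 ^ 15 + 2 ^ 14 + 2 ^ 12) = true := by decide +kernel
theorem c_cell_0_r_l : allR F_cell 13 (0 * 2 ^ 15 + 2 ^ 14) = true := allR_of_parts F_cell 12 _ c_cell_0_r_l_l c_cell_0_r_l_r
theorem c_cell_0_r_r_l : allR F_cell 12 (0 * 2 ^ 15 + 2 ^ 14 + 2 ^ 13) = true := by decide +kernel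
theorem c_cell_0_r_r_r : allR F_cell 12 (0 * 2 ^ 15 + 2 ^ 14 + 2 ^ 13 + 2 ^ 12) = true := by decide +kernel
theorem c_cell_0_r_r : allR F_cell 13 (0 * 2 ^ 15 + 2 ^ 14 + 2 ^ 13) = true := allR_of_parts F_cell 12 _ c_cell_0_r_r_l c_cell_0_r_r_r
theorem c_cell_0_r : allR F_cell 14 (0 * 2 ^ 15 + 2 ^ 14) = true := allR_of_parts F_cell 13 _ c_cell_0_r_l c_cell_0_r_r
theorem c_cell_0 : allR F_cell 15 (0 * 2 ^ 15) = true := allR_of_parts F_cell 14 _ c_cell_0_l c_cell_0_r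
theorem c_cell_1_l_l_l : allR F_cell 12 (1 * 2 ^ 15) = true := by decide +kernel
theorem c_cell_1_l_l_r : allR F_cell 12 (1 * 2 ^ 15 + 2 ^ 12) = true := by decide +kernel
theorem c_cell_1_l_l : allR F_cell 13 (1 * 2 ^ 15) = true := allR_of_parts F_cell 12 _ c_cell_1_l_l_l c_cell_1_l_l_r
theorem c_cell_1_l_r_l : allR F_cell 12 (1 * 2 ^ 15 + 2 ^ 13) = true := by decide +kernel
theorem c_cell_1_l_r_r : allR F_cell 12 (1 * 2 ^ 15 + 2 ^ 13 + 2 ^ 12) = true := by decide +kernel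
theorem c_cell_1_l_r : allR F_cell 13 (1 * 2 ^ 15 + 2 ^ 13) = true := allR_of_parts F_cell 12 _ c_cell_1_l_r_l c_cell_1_l_r_r
theorem c_cell_1_l : allR F_cell 14 (1 * 2 ^ 15) = true := allR_of_parts F_cell 13 _ c_cell_1_l_l c_cell_1_l_r
theorem c_cell_1_r_l_l : allR F_cell 12 (1 * 2 ^ 15 + 2 ^ 14) = true := by decide +kernel
theorem c_cell_1_r_l_r : allR F_cell 12 (1 * 2 ^ 15 + 2 ^ 14 + 2 ^ 12) = true := by decide +kernel
theorem c_cell_1_r_l : allR F_cell 13 (1 * 2 ^ 15 + 2 ^ 14) = true := allR_of_parts F_cell 12 _ c_cell_1_r_l_l c_cell_1_r_l_r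
theorem c_cell_1_r_r_l : allR F_cell 12 (1 * 2 ^ 15 + 2 ^ 14 + 2 ^ 13) = true := by decide +kernel
theorem c_cell_1_r_r_r : allR F_cell 12 (1 * 2 ^ 15 + 2 ^ 14 + 2 ^ 13 + 2 ^ 12) = true := by decide +kernel
theorem c_cell_1_r_r : allR F_cell 13 (1 * 2 ^ 15 + 2 ^ 14 + 2 ^ 13) = true := allR_of_parts F_cell 12 _ c_cell_1_r_r_l c_cell_1_r_r_r
theorem c_cell_1_r : allR F_cell 14 (1 * 2 ^ 15 + 2 ^ 14) = true := allR_of_parts F_cell 13 _ c_cell_1_r_l c_cell_1_r_r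
theorem c_cell_1 : allR F_cell 15 (1 * 2 ^ 15) = true := allR_of_parts F_cell 14 _ c_cell_1_l c_cell_1_r
theorem c_cell_2_l_l_l : allR F_cell 12 (2 * 2 ^ 15) = true := by decide +kernel
theorem c_cell_2_l_l_r : allR F_cell 12 (2 * 2 ^ 15 + 2 ^ 12) = true := by decide +kernel
theorem c_cell_2_l_l : allR F_cell 13 (2 * 2 ^ 15) = true := allR_of_parts F_cell 12 _ c_cell_2_l_l_l c_cell_2_l_l_r
theorem c_cell_2_l_r_l : allR F_cell 12 (2 * 2 ^ 15 + 2 ^ 13) = true := by decide +kernel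
theorem c_cell_2_l_r_r : allR F_cell 12 (2 * 2 ^ 15 + 2 ^ 13 + 2 ^ 12) = true := by decide +kernel
theorem c_cell_2_l_r : allR F_cell 13 (2 * 2 ^ 15 + 2 ^ 13) = true := allR_of_parts F_cell 12 _ c_cell_2_l_r_l c_cell_2_l_r_r
theorem c_cell_2_l : allR F_cell 14 (2 * 2 ^ 15) = true := allR_of_parts F_cell 13 _ c_cell_2_l_l c_cell_2_l_r
theorem c_cell_2_r_l_l : allR F_cell 12 (2 * 2 ^ 15 + 2 ^ 14) = true := by decide +kernel
theorem c_cell_2_r_l_r : allR F_cell 12 (2 * 2 ^ 15 + 2 ^ 14 + 2 ^ 12) = true := by decide +kernel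
theorem c_cell_2_r_l : allR F_cell 13 (2 * 2 ^ 15 + 2 ^ 14) = true := allR_of_parts F_cell 12 _ c_cell_2_r_l_l c_cell_2_r_l_r
theorem c_cell_2_r_r_l : allR F_cell 12 (2 * 2 ^ 15 + 2 ^ 14 + 2 ^ 13) = true := by decide +kernel
theorem c_cell_2_r_r_r : allR F_cell 12 (2 * 2 ^ 15 + 2 ^ 14 + 2 ^ 13 + 2 ^ 12) = true := by decide +kernel
theorem c_cell_2_r_r : allR F_cell 13 (2 * 2 ^ 15 + 2 ^ 14 + 2 ^ 13) = true := allR_of_parts F_cell 12 _ c_cell_2_r_r_l c_cell_2_r_r_r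
theorem c_cell_2_r : allR F_cell 14 (2 * 2 ^ 15 + 2 ^ 14) = true := allR_of_parts F_cell 13 _ c_cell_2_r_l c_cell_2_r_r
theorem c_cell_2 : allR F_cell 15 (2 * 2 ^ 15) = true := allR_of_parts F_cell 14 _ c_cell_2_l c_cell_2_r
theorem c_cell_3_l_l_l : allR F_cell 12 (3 * 2 ^ 15) = true := by decide +kernel
theorem c_cell_3_l_l_r : allR F_cell 12 (3 * 2 ^ 15 + 2 ^ 12) = true := by decide +kernel
theorem c_cell_3_l_l : allR F_cell 13 (3 * 2 ^ 15) = true := allR_of_parts F_cell 12 _ c_cell_3_l_l_l c_cell_3_l_l_r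
theorem c_cell_3_l_r_l : allR F_cell 12 (3 * 2 ^ 15 + 2 ^ 13) = true := by decide +kernel
theorem c_cell_3_l_r_r : allR F_cell 12 (3 * 2 ^ 15 + 2 ^ 13 + 2 ^ 12) = true := by decide +kernel
theorem c_cell_3_l_r : allR F_cell 13 (3 * 2 ^ 15 + 2 ^ 13) = true := allR_of_parts F_cell 12 _ c_cell_3_l_r_l c_cell_3_l_r_r
theorem c_cell_3_l : allR F_cell 14 (3 * 2 ^ 15) = true := allR_of_parts F_cell 13 _ c_cell_3_l_l c_cell_3_l_r
theorem c_cell_3_r_l_l : allR F_cell 12 (3 * 2 ^ 15 + 2 ^ 14) = true := by decide +kernel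
theorem c_cell_3_r_l_r : allR F_cell 12 (3 * 2 ^ 15 + 2 ^ 14 + 2 ^ 12) = true := by decide +kernel
theorem c_cell_3_r_l : allR F_cell 13 (3 * 2 ^ 15 + 2 ^ 14) = true := allR_of_parts F_cell 12 _ c_cell_3_r_l_l c_cell_3_r_l_r
theorem c_cell_3_r_r_l : allR F_cell 12 (3 * 2 ^ 15 + 2 ^ 14 + 2 ^ 13) = true := by decide +kernel
theorem c_cell_3_r_r_r : allR F_cell 12 (3 * 2 ^ 15 + 2 ^ 14 + 2 ^ 13 + 2 ^ 12) = true := by decide +kernel
theorem c_cell_3_r_r : allR F_cell 13 (3 * 2 ^ 15 + 2 ^ 14 + 2 ^ 13) = true := allR_of_parts F_cell 12 _ c_cell_3_r_r_l c_cell_3_r_r_r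
theorem c_cell_3_r : allR F_cell 14 (3 * 2 ^ 15 + 2 ^ 14) = true := allR_of_parts F_cell 13 _ c_cell_3_r_l c_cell_3_r_r
theorem c_cell_3 : allR F_cell 15 (3 * 2 ^ 15) = true := allR_of_parts F_cell 14 _ c_cell_3_l c_cell_3_r

end

end Cfsg.Agent.H07.CD.ONT
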