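import Mathlib
import Cfsg.Agent.Lib.H07.CD.ONTM
set_option autoImplicit false
set_option maxRecDepth 1000000
namespace Cfsg.Agent.H07.CD.ONT
open Cfsg.Agent.H07.Coset Cfsg.Spor
noncomputable section
theorem c_cell_4_l_l_l : allR F_cell 12 (4 * 2 ^ 15) = true := by decide +kernel
theorem c_cell_4_l_l_r : allR F_cell 12 (4 * 2 ^ 15 + 2 ^ 12) = true := by decide +kernel
theorem c_cell_4_l_l : allR F_cell 13 (4 * 2 ^ 15) = true := allR_of_parts F_cell 12 _ c_cell_4_l_l_l c_cell_4_l_l_r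
theorem c_cell_4_l_r_l : allR F_cell 12 (4 * 2 ^ 15 + 2 ^ 13) = true := by decide +kernel
theorem c_cell_4_l_r_r : allR F_cell 12 (4 * 2 ^ 15 + 2 ^ 13 + 2 ^ 12) = true := by decide +kernel
theorem c_cell_4_l_r : allR F_cell 13 (4 * 2 ^ 15 + 2 ^ 13) = true := allR_of_parts F_cell 12 _ c_cell_4_l_r_l c_cell_4_l_r_r
theorem c_cell_4_l : allR F_cell 14 (4 * 2 ^ 15) = true := allR_of_parts F_cell 13 _ c_cell_4_l_l c_cell_4_l_r
theorem c_cell_4_r_l_l : allR F_cell 12 (4 * 2 ^ 15 + 2 ^ 14) = true := by decide +kernel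
theorem c_cell_4_r_l_r : allR F_cell 12 (4 * 2 ^ 15 + 2 ^ 14 + 2 ^ 12) = true := by decide +kernel
theorem c_cell_4_r_l : allR F_cell 13 (4 * 2 ^ 15 + 2 ^ 14) = true := allR_of_parts F_cell 12 _ c_cell_4_r_l_l c_cell_4_r_l_r
theorem c_cell_4_r_r_l : allR F_cell 12 (4 * 2 ^ 15 + 2 ^ 14 + 2 ^ 13) = true := by decide +kernel
theorem c_cell_4_r_r_r : allR F_cell 12 (4 * 2 ^ 15 + 2 ^ 14 + 2 ^ 13 + 2 ^ 12) = true := by decide +kernel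
theorem c_cell_4_r_r : allR F_cell 13 (4 * 2 ^ 15 + 2 ^ 14 + 2 ^ 13) = true := allR_of_parts F_cell 12 _ c_cell_4_r_r_l c_cell_4_r_r_r
theorem c_cell_4_r : allR F_cell 14 (4 * 2 ^ 15 + 2 ^ 14) = true := allR_of_parts F_cell 13 _ c_cell_4_r_l c_cell_4_r_r
theorem c_cell_4 : allR F_cell 15 (4 * 2 ^ 15) = true := allR_of_parts F_cell 14 _ c_cell_4_l c_cell_4_r
theorem c_cell_5_l_l_l : allR F_cell 12 (5 * 2 ^ 15) = true := by decide +kernel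
theorem c_cell_5_l_l_r : allR F_cell 12 (5 * 2 ^ 15 + 2 ^ 12) = true := by decide +kernel
theorem c_cell_5_l_l : allR F_cell 13 (5 * 2 ^ 15) = true := allR_of_parts F_cell 12 _ c_cell_5_l_l_l c_cell_5_l_l_r
theorem c_cell_5_l_r_l : allR F_cell 12 (5 * 2 ^ 15 + 2 ^ 13) = true := by decide +kernel
theorem c_cell_5_l_r_r : allR F_cell 12 (5 * 2 ^ 15 + 2 ^ 13 + 2 ^ 12) = true := by decide +kernel
theorem c_cell_5_l_r : allR F_cell 13 (5 * 2 ^ 15 + 2 ^ 13) = true := allR_of_parts F_cell 12 _ c_cell_5_l_r_l c_cell_5_l_r_r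
theorem c_cell_5_l : allR F_cell 14 (5 * 2 ^ 15) = true := allR_of_parts F_cell 13 _ c_cell_5_l_l c_cell_5_l_r
theorem c_cell_5_r_l_l : allR F_cell 12 (5 * 2 ^ 15 + 2 ^ 14) = true := by decide +kernel
theorem c_cell_5_r_l_r : allR F_cell 12 (5 * 2 ^ 15 + 2 ^ 14 + 2 ^ 12) = true := by decide +kernel
theorem c_cell_5_r_l : allR F_cell 13 (5 * 2 ^ 15 + 2 ^ 14) = true := allR_of_parts F_cell 12 _ c_cell_5_r_l_l c_cell_5_r_l_r
theorem c_cell_5_r_r_l : allR F_cell 12 (5 * 2 ^ 15 + 2 ^ 14 + 2 ^ 13) = true := by decide +kernel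
theorem c_cell_5_r_r_r : allR F_cell 12 (5 * 2 ^ 15 + 2 ^ 14 + 2 ^ 13 + 2 ^ 12) = true := by decide +kernel
theorem c_cell_5_r_r : allR F_cell 13 (5 * 2 ^ 15 + 2 ^ 14 + 2 ^ 13) = true := allR_of_parts F_cell 12 _ c_cell_5_r_r_l c_cell_5_r_r_r
theorem c_cell_5_r : allR F_cell 14 (5 * 2 ^ 15 + 2 ^ 14) = true := allR_of_parts F_cell 13 _ c_cell_5_r_l c_cell_5_r_r
theorem c_cell_5 : allR F_cell 15 (5 * 2 ^ 15) = true := allR_of_parts F_cell 14 _ c_cell_5_l c_cell_5_r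
theorem c_eps_0_l_l_l : allR F_eps 12 (0 * 2 ^ 15) = true := by decide +kernel
theorem c_eps_0_l_l_r : allR F_eps 12 (0 * 2 ^ 15 + 2 ^ 12) = true := by decide +kernel
theorem c_eps_0_l_l : allR F_eps 13 (0 * 2 ^ 15) = true := allR_of_parts F_eps 12 _ c_eps_0_l_l_l c_eps_0_l_l_r
theorem c_eps_0_l_r_l : allR F_eps 12 (0 * 2 ^ 15 + 2 ^ 13) = true := by decide +kernel
theorem c_eps_0_l_r_r : allR F_eps 12 (0 * 2 ^ 15 + 2 ^ 13 + 2 ^ 12) = true := by decide +kernel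
theorem c_eps_0_l_r : allR F_eps 13 (0 * 2 ^ 15 + 2 ^ 13) = true := allR_of_parts F_eps 12 _ c_eps_0_l_r_l c_eps_0_l_r_r
theorem c_eps_0_l : allR F_eps 14 (0 * 2 ^ 15) = true := allR_of_parts F_eps 13 _ c_eps_0_l_l c_eps_0_l_r
theorem c_eps_0_r_l_l : allR F_eps 12 (0 * 2 ^ 15 + 2 ^ 14) = true := by decide +kernel
theorem c_eps_0_r_l_r : allR F_eps 12 (0 * 2 ^ 15 + 2 ^ 14 + 2 ^ 12) = true := by decide +kernel
theorem c_eps_0_r_l : allR F_eps 13 (0 * 2 ^ 15 + 2 ^ 14) = true := allR_of_parts F_eps 12 _ c_eps_0_r_l_l c_eps_0_r_l_r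
theorem c_eps_0_r_r_l : allR F_eps 12 (0 * 2 ^ 15 + 2 ^ 14 + 2 ^ 13) = true := by decide +kernel
theorem c_eps_0_r_r_r : allR F_eps 12 (0 * 2 ^ 15 + 2 ^ 14 + 2 ^ 13 + 2 ^ 12) = true := by decide +kernel
theorem c_eps_0_r_r : allR F_eps 13 (0 * 2 ^ 15 + 2 ^ 14 + 2 ^ 13) = true := allR_of_parts F_eps 12 _ c_eps_0_r_r_l c_eps_0_r_r_r
theorem c_eps_0_r : allR F_eps 14 (0 * 2 ^ 15 + 2 ^ 14) = true := allR_of_parts F_eps 13 _ c_eps_0_r_l c_eps_0_r_r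
theorem c_eps_0 : allR F_eps 15 (0 * 2 ^ 15) = true := allR_of_parts F_eps 14 _ c_eps_0_l c_eps_0_r
theorem c_eps_1_l_l_l : allR F_eps 12 (1 * 2 ^ 15) = true := by decide +kernel
theorem c_eps_1_l_l_r : allR F_eps 12 (1 * 2 ^ 15 + 2 ^ 12) = true := by decide +kernel
theorem c_eps_1_l_l : allR F_eps 13 (1 * 2 ^ 15) = true := allR_of_parts F_eps 12 _ c_eps_1_l_l_l c_eps_1_l_l_r
theorem c_eps_1_l_r_l : allR F_eps 12 (1 * 2 ^ 15 + 2 ^ 13) = true := by decide +kernel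
theorem c_eps_1_l_r_r : allR F_eps 12 (1 * 2 ^ 15 + 2 ^ 13 + 2 ^ 12) = true := by decide +kernel
theorem c_eps_1_l_r : allR F_eps 13 (1 * 2 ^ 15 + 2 ^ 13) = true := allR_of_parts F_eps 12 _ c_eps_1_l_r_l c_eps_1_l_r_r
theorem c_eps_1_l : allR F_eps 14 (1 * 2 ^ 15) = true := allR_of_parts F_eps 13 _ c_eps_1_l_l c_eps_1_l_r
theorem c_eps_1_r_l_l : allR F_eps 12 (1 * 2 ^ 15 + 2 ^ 14) = true := by decide +kernel
theorem c_eps_1_r_l_r : allR F_eps 12 (1 * 2 ^ 15 + 2 ^ 14 + 2 ^ 12) = true := by decide +kernel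
theorem c_eps_1_r_l : allR F_eps 13 (1 * 2 ^ 15 + 2 ^ 14) = true := allR_of_parts F_eps 12 _ c_eps_1_r_l_l c_eps_1_r_l_r
theorem c_eps_1_r_r_l : allR F_eps 12 (1 * 2 ^ 15 + 2 ^ 14 + 2 ^ 13) = true := by decide +kernel
theorem c_eps_1_r_r_r : allR F_eps 12 (1 * 2 ^ 15 + 2 ^ 14 + 2 ^ 13 + 2 ^ 12) = true := by decide +kernel
theorem c_eps_1_r_r : allR F_eps 13 (1 * 2 ^ 15 + 2 ^ 14 + 2 ^ 13) = true := allR_of_parts F_eps 12 _ c_eps_1_r_r_l c_eps_1_r_r_r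
theorem c_eps_1_r : allR F_eps 14 (1 * 2 ^ 15 + 2 ^ 14) = true := allR_of_parts F_eps 13 _ c_eps_1_r_l c_eps_1_r_r
theorem c_eps_1 : allR F_eps 15 (1 * 2 ^ 15) = true := allR_of_parts F_eps 14 _ c_eps_1_l c_eps_1_r
theorem c_eps_2_l_l_l : allR F_eps 12 (2 * 2 ^ 15) = true := by decide +kernel
theorem c_eps_2_l_l_r : allR F_eps 12 (2 * 2 ^ 15 + 2 ^ 12) = true := by decide +kernel
theorem c_eps_2_l_l : allR F_eps 13 (2 * 2 ^ 15) = true := allR_of_parts F_eps 12 _ c_eps_2_l_l_l c_eps_2_l_l_r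
theorem c_eps_2_l_r_l : allR F_eps 12 (2 * 2 ^ 15 + 2 ^ 13) = true := by decide +kernel
theorem c_eps_2_l_r_r : allR F_eps 12 (2 * 2 ^ 15 + 2 ^ 13 + 2 ^ 12) = true := by decide +kernel
theorem c_eps_2_l_r : allR F_eps 13 (2 * 2 ^ 15 + 2 ^ 13) = true := allR_of_parts F_eps 12 _ c_eps_2_l_r_l c_eps_2_l_r_r
theorem c_eps_2_l : allR F_eps 14 (2 * 2 ^ 15) = true := allR_of_parts F_eps 13 _ c_eps_2_l_l c_eps_2_l_r
theorem c_eps_2_r_l_l : allR F_eps 12 (2 * 2 ^ 15 + 2 ^ 14) = true := by decide +kernel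
theorem c_eps_2_r_l_r : allR F_eps 12 (2 * 2 ^ 15 + 2 ^ 14 + 2 ^ 12) = true := by decide +kernel
theorem c_eps_2_r_l : allR F_eps 13 (2 * 2 ^ 15 + 2 ^ 14) = true := allR_of_parts F_eps 12 _ c_eps_2_r_l_l c_eps_2_r_l_r
theorem c_eps_2_r_r_l : allR F_eps 12 (2 * 2 ^ 15 + 2 ^ 14 + 2 ^ 13) = true := by decide +kernel
theorem c_eps_2_r_r_r : allR F_eps 12 (2 * 2 ^ 15 + 2 ^ 14 + 2 ^ 13 + 2 ^ 12) = true := by decide +kernel
theorem c_eps_2_r_r : allR F_eps 13 (2 * 2 ^ 15 + 2 ^ 14 + 2 ^ 13) = true := allR_of_parts F_eps 12 _ c_eps_2_r_r_l c_eps_2_r_r_r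
theorem c_eps_2_r : allR F_eps 14 (2 * 2 ^ 15 + 2 ^ 14) = true := allR_of_parts F_eps 13 _ c_eps_2_r_l c_eps_2_r_r
theorem c_eps_2 : allR F_eps 15 (2 * 2 ^ 15) = true := allR_of_parts F_eps 14 _ c_eps_2_l c_eps_2_r
theorem c_eps_3_l_l_l : allR F_eps 12 (3 * 2 ^ 15) = true := by decide +kernel
theorem c_eps_3_l_l_r : allR F_eps 12 (3 * 2 ^ 15 + 2 ^ 12) = true := by decide +kernel
theorem c_eps_3_l_l : allR F_eps 13 (3 * 2 ^ 15) = true := allR_of_parts F_eps 12 _ c_eps_3_l_l_l c_eps_3_l_l_r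
theorem c_eps_3_l_r_l : allR F_eps 12 (3 * 2 ^ 15 + 2 ^ 13) = true := by decide +kernel
theorem c_eps_3_l_r_r : allR F_eps 12 (3 * 2 ^ 15 + 2 ^ 13 + 2 ^ 12) = true := by decide +kernel
theorem c_eps_3_l_r : allR F_eps 13 (3 * 2 ^ 15 + 2 ^ 13) = true := allR_of_parts F_eps 12 _ c_eps_3_l_r_l c_eps_3_l_r_r
theorem c_eps_3_l : allR F_eps 14 (3 * 2 ^ 15) = true := allR_of_parts F_eps 13 _ c_eps_3_l_l c_eps_3_l_r
theorem c_eps_3_r_l_l : allR F_eps 12 (3 * 2 ^ 15 + 2 ^ 14) = true := by decide +kernel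
theorem c_eps_3_r_l_r : allR F_eps 12 (3 * 2 ^ 15 + 2 ^ 14 + 2 ^ 12) = true := by decide +kernel
theorem c_eps_3_r_l : allR F_eps 13 (3 * 2 ^ 15 + 2 ^ 14) = true := allR_of_parts F_eps 12 _ c_eps_3_r_l_l c_eps_3_r_l_r
theorem c_eps_3_r_r_l : allR F_eps 12 (3 * 2 ^ 15 + 2 ^ 14 + 2 ^ 13) = true := by decide +kernel
theorem c_eps_3_r_r_r : allR F_eps 12 (3 * 2 ^ 15 + 2 ^ 14 + 2 ^ 13 + 2 ^ 12) = true := by decide +kernel
theorem c_eps_3_r_r : allR F_eps 13 (3 * 2 ^ 15 + 2 ^ 14 + 2 ^ 13) = true := allR_of_parts F_eps 12 _ c_eps_3_r_r_l c_eps_3_r_r_r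
theorem c_eps_3_r : allR F_eps 14 (3 * 2 ^ 15 + 2 ^ 14) = true := allR_of_parts F_eps 13 _ c_eps_3_r_l c_eps_3_r_r
theorem c_eps_3 : allR F_eps 15 (3 * 2 ^ 15) = true := allR_of_parts F_eps 14 _ c_eps_3_l c_eps_3_r
theorem c_eps_4_l_l_l : allR F_eps 12 (4 * 2 ^ 15) = true := by decide +kernel
theorem c_eps_4_l_l_r : allR F_eps 12 (4 * 2 ^ 15 + 2 ^ 12) = true := by decide +kernel
theorem c_eps_4_l_l : allR F_eps 13 (4 * 2 ^ 15) = true := allR_of_parts F_eps 12 _ c_eps_4_l_l_l c_eps_4_l_l_r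
theorem c_eps_4_l_r_l : allR F_eps 12 (4 * 2 ^ 15 + 2 ^ 13) = true := by decide +kernel
theorem c_eps_4_l_r_r : allR F_eps 12 (4 * 2 ^ 15 + 2 ^ 13 + 2 ^ 12) = true := by decide +kernel
theorem c_eps_4_l_r : allR F_eps 13 (4 * 2 ^ 15 + 2 ^ 13) = true := allR_of_parts F_eps 12 _ c_eps_4_l_r_l c_eps_4_l_r_r
theorem c_eps_4_l : allR F_eps 14 (4 * 2 ^ 15) = true := allR_of_parts F_eps 13 _ c_eps_4_l_l c_eps_4_l_r
theorem c_eps_4_r_l_l : allR F_eps 12 (4 * 2 ^ 15 + 2 ^ 14) = true := by decide +kernel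
theorem c_eps_4_r_l_r : allR F_eps 12 (4 * 2 ^ 15 + 2 ^ 14 + 2 ^ 12) = true := by decide +kernel
theorem c_eps_4_r_l : allR F_eps 13 (4 * 2 ^ 15 + 2 ^ 14) = true := allR_of_parts F_eps 12 _ c_eps_4_r_l_l c_eps_4_r_l_r
theorem c_eps_4_r_r_l : allR F_eps 12 (4 * 2 ^ 15 + 2 ^ 14 + 2 ^ 13) = true := by decide +kernel
theorem c_eps_4_r_r_r : allR F_eps 12 (4 * 2 ^ 15 + 2 ^ 14 + 2 ^ 13 + 2 ^ 12) = true := by decide +kernel
theorem c_eps_4_r_r : allR F_eps 13 (4 * 2 ^ 15 + 2 ^ 14 + 2 ^ 13) = true := allR_of_parts F_eps 12 _ c_eps_4_r_r_l c_eps_4_r_r_r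
theorem c_eps_4_r : allR F_eps 14 (4 * 2 ^ 15 + 2 ^ 14) = true := allR_of_parts F_eps 13 _ c_eps_4_r_l c_eps_4_r_r
theorem c_eps_4 : allR F_eps 15 (4 * 2 ^ 15) = true := allR_of_parts F_eps 14 _ c_eps_4_l c_eps_4_r
theorem c_eps_5_l_l_l : allR F_eps 12 (5 * 2 ^ 15) = true := by decide +kernel
theorem c_eps_5_l_l_r : allR F_eps 12 (5 * 2 ^ 15 + 2 ^ 12) = true := by decide +kernel
theorem c_eps_5_l_l : allR F_eps 13 (5 * 2 ^ 15) = true := allR_of_parts F_eps 12 _ c_eps_5_l_l_l c_eps_5_l_l_r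
theorem c_eps_5_l_r_l : allR F_eps 12 (5 * 2 ^ 15 + 2 ^ 13) = true := by decide +kernel
theorem c_eps_5_l_r_r : allR F_eps 12 (5 * 2 ^ 15 + 2 ^ 13 + 2 ^ 12) = true := by decide +kernel
theorem c_eps_5_l_r : allR F_eps 13 (5 * 2 ^ 15 + 2 ^ 13) = true := allR_of_parts F_eps 12 _ c_eps_5_l_r_l c_eps_5_l_r_r
theorem c_eps_5_l : allR F_eps 14 (5 * 2 ^ 15) = true := allR_of_parts F_eps 13 _ c_eps_5_l_l c_eps_5_l_r
theorem c_eps_5_r_l_l : allR F_eps 12 (5 * 2 ^ 15 + 2 ^ 14) = true := by decide +kernel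
theorem c_eps_5_r_l_r : allR F_eps 12 (5 * 2 ^ 15 + 2 ^ 14 + 2 ^ 12) = true := by decide +kernel
theorem c_eps_5_r_l : allR F_eps 13 (5 * 2 ^ 15 + 2 ^ 14) = true := allR_of_parts F_eps 12 _ c_eps_5_r_l_l c_eps_5_r_l_r
theorem c_eps_5_r_r_l : allR F_eps 12 (5 * 2 ^ 15 + 2 ^ 14 + 2 ^ 13) = true := by decide +kernel
theorem c_eps_5_r_r_r : allR F_eps 12 (5 * 2 ^ 15 + 2 ^ 14 + 2 ^ 13 + 2 ^ 12) = true := by decide +kernel
theorem c_eps_5_r_r : allR F_eps 13 (5 * 2 ^ 15 + 2 ^ 14 + 2 ^ 13) = true := allR_of_parts F_eps 12 _ c_eps_5_r_r_l c_eps_5_r_r_r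
theorem c_eps_5_r : allR F_eps 14 (5 * 2 ^ 15 + 2 ^ 14) = true := allR_of_parts F_eps 13 _ c_eps_5_r_l c_eps_5_r_r
theorem c_eps_5 : allR F_eps 15 (5 * 2 ^ 15) = true := allR_of_parts F_eps 14 _ c_eps_5_l c_eps_5_r
theorem c_fin_0 : allR F_fin 12 (0 * 2 ^ 12) = true := by decide +kernel

end

end Cfsg.Agent.H07.CD.ONT
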