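import Mathlib
import Cfsg.Agent.Lib.H07.Coset4
import Cfsg.Prelude.Def_Spor_Suz
set_option autoImplicit false
set_option maxRecDepth 1000000
namespace Cfsg.Agent.H07.CD.SuzL4
open Cfsg.Agent.H07.Coset Cfsg.Spor
noncomputable section
def cellDT : BT ℕ := (BT.leaf (nat_lit 0xdc000021d800004b9000008e600000ee8000027a800003ef0000066200000de0000027b000004ed0000075600000c9c0000154800002f400000964000012b00000212800002a1000004600000118c00001370000045f000004540000106c00000d4000003dd000003cc00000f6400000d2000003950000022e0000058800001b00000035e000006260000043c0000048800000dc000005b400000b60000014680000089000000ac0000092c000006a00000247000000a4000008140000008000001ca0000029c0000070c0000006000001880000028c000004040000002000000c200000100000001))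
def epsDT : BT ℕ := (BT.leaf (nat_lit 0xfffffffffffffffffffffffffffffffffffffffffffffffffffffffffffffffffffffffffffffffffffffffffffffffffffffffffffffffffffffffffffffffffffffffffffffffffffffffffff))
def stpDT : BT ℕ := (BT.leaf (nat_lit 0x200002602b80000900a000002600a8000088024000026048000008010000002400a8000078024000024048000007010200002202b80000680a4000022048000006010200002002a00000700a0000020008000006000200001e02b80000580a400001e048000005010000001c008000005000000001a00a800004802400001a0480000040102000018028000004008000001600a80000380240000160480000030102000014028000003008200001202b80000280a40000120480000020100000010008000002000200000e02b80000180a400000e048000001010000000c008000001000000000a00a800001802400000a0480000008102000008028000000808400000604800000001020000040280000000080000002008000000000))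
def defDT : BT ℕ := (BT.leaf (nat_lit 0x8013809804c005012801004801301180480440010108002041010010004000000))
def tabDT : BT ℕ := (BT.leaf (nat_lit 0x84a2e9bd8d9cdcc52e52829114c51033cef338856b58410d6b508291a42801ca7018a400c41))
def liveDT : BT ℕ := (BT.leaf (nat_lit 0x9ca307b9ac5a928398a418820))
end

end Cfsg.Agent.H07.CD.SuzL4
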